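import Mathlib
import Groth.Prelude.Def_RegImm
import Groth.Agent.Lib.Helper82.SyntLocal
import Groth.Agent.H46.SyntLocality

/-!
# Basic transport lemmas for relative global complete intersections and syntomic algebras
(helper8, for the lifting problem Stacks 07M8)
-/

set_option autoImplicit false
set_option linter.style.haveILetI false
set_option linter.unusedSectionVars false
universe u

namespace Groth.Agent.H8.SL

open TensorProduct

/-- `IsRelGCI` only depends on the `R`-algebra and on the relative dimension `n - c`. -/
theorem isRelGCI_of_algEquiv {R : Type u} [CommRing R] {n c n' c' : ℕ}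
    (F : Fin c → MvPolynomial (Fin n) R) (F' : Fin c' → MvPolynomial (Fin n') R)
    (h : Synt.IsRelGCI R n c F)
    (e : Synt.RelGCIRing R n c F ≃ₐ[R] Synt.RelGCIRing R n' c' F')
    (hc : c' ≤ n') (hd : n - c = n' - c') : Synt.IsRelGCI R n' c' F' := by
  intro p hnt
  let eF : p.asIdeal.Fiber (Synt.RelGCIRing R n c F) ≃ₐ[p.asIdeal.ResidueField]
      p.asIdeal.Fiber (Synt.RelGCIRing R n' c' F') :=
    Algebra.TensorProduct.congr AlgEquiv.refl e
  have hnt' : Nontrivial (p.asIdeal.Fiber (Synt.RelGCIRing R n c F)) :=
    eF.toRingEquiv.toEquiv.nontrivial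
  obtain ⟨-, hdim⟩ := h p hnt'
  refine ⟨hc, ?_⟩
  have h3 : ringKrullDim (p.asIdeal.Fiber (Synt.RelGCIRing R n c F)) =
      ringKrullDim (p.asIdeal.Fiber (Synt.RelGCIRing R n' c' F')) :=
    ringKrullDim_eq_of_ringEquiv eF.toRingEquiv
  rw [← h3, hdim, hd]

/-- localization away from an element transported along an algebra isomorphism -/
noncomputable def awayCongr {R X Y : Type u} [CommRing R] [CommRing X] [CommRing Y] [Algebra R X]
    [Algebra R Y] (e : X ≃ₐ[R] Y) (x : X) : Localization.Away x ≃ₐ[R] Localization.Away (e x) :=
  IsLocalization.algEquivOfAlgEquiv (M := Submonoid.powers x) (T := Submonoid.powers (e x))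
    (Localization.Away x) (Localization.Away (e x)) e (by
      rw [Submonoid.map_powers])

/-- Two localizations away from the same element are isomorphic. -/
noncomputable def awayEquivOfIsLocalization {R X : Type u} [CommRing R] [CommRing X] [Algebra R X]
    (x : X) (Y : Type u) [CommRing Y] [Algebra X Y] [Algebra R Y] [IsScalarTower R X Y]
    [IsLocalization.Away x Y] : Localization.Away x ≃ₐ[R] Y :=
  (IsLocalization.algEquiv (Submonoid.powers x) (Localization.Away x) Y).restrictScalars R

/-- syntomic algebras localize -/
theorem isSyntomic_away {R S : Type u} [CommRing R] [CommRing S] [Algebra R S]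
    (h : Synt.IsSyntomic R S) (g : S) : Synt.IsSyntomic R (Localization.Away g) := by
  have h1 : Groth.Agent.H46.SyntLocality.Q (algebraMap R S) :=
    Groth.Agent.H46.SyntLocality.isSyntomic_congr (R := R) (S := S) inferInstance
      (algebraMap R S).toAlgebra (fun r => rfl) h
  have h2 := Groth.Agent.H46.SyntLocality.Q_awayTarget (Localization.Away g) g (algebraMap R S) h1
  exact Groth.Agent.H46.SyntLocality.isSyntomic_congr (R := R) (S := Localization.Away g)
    ((algebraMap S (Localization.Away g)).comp (algebraMap R S)).toAlgebra inferInstance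
    (fun r => (IsScalarTower.algebraMap_apply R S (Localization.Away g) r).symm) h2

/-- syntomic algebras localize, `IsLocalization` form -/
theorem isSyntomic_of_isLocalization_away {R S : Type u} [CommRing R] [CommRing S] [Algebra R S]
    (h : Synt.IsSyntomic R S) (g : S) (T : Type u) [CommRing T] [Algebra S T] [Algebra R T]
    [IsScalarTower R S T] [IsLocalization.Away g T] : Synt.IsSyntomic R T :=
  Groth.Agent.Lib.Helper82.SyntLocal.isSyntomic_of_algEquiv R (awayEquivOfIsLocalization g T)
    (isSyntomic_away h g)

end Groth.Agent.H8.SL
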