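import Mathlib
import Groth.Prelude.Def_RegImm
import Groth.Agent.H8.SL.Basic
import Groth.Agent.Lib.Helper82.CotangentProj
import Groth.Agent.Lib.Helper82.RelGCIDescent

/-!
# Local models of a syntomic quotient of a polynomial ring

For `T₀ = k[x_1..x_n]/J` syntomic over `k` and a prime `q₀` of `T₀` we produce `c ≤ n` and
`t ∉ q₀` such that the conormal module `J/J²` has rank `c` on `D(t)` and every further
principal localization `(T₀)_{t t'}` is isomorphic to a relative global complete intersection of
relative dimension `n - c`.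
-/

set_option autoImplicit false
set_option linter.style.haveILetI false
set_option linter.unusedSectionVars false
universe u

namespace Groth.Agent.H8.SL

open TensorProduct MvPolynomial Groth.Agent.Lib.Helper82.RelGCIAway
  Groth.Agent.Lib.Helper82.CotangentProj

section LocFree

variable {T : Type u} [CommRing T] {N : Type u} [AddCommGroup N] [Module T N]

/-- a module generated up to `t`-torsion by `c` elements which are independent up to `t`-torsion
becomes free of rank `c` after inverting `t` (helper82's `free_localizedModule_away`, keeping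
track of the rank) -/
theorem nonempty_linearEquiv_localizedModule_away (t : T) {c : ℕ} (m : Fin c → N)
    (hgen : ∀ x : N, ∃ k : ℕ, t ^ k • x ∈ Submodule.span T (Set.range m))
    (hind : ∀ a : Fin c → T, ∑ i, a i • m i = 0 → ∃ k : ℕ, ∀ i, t ^ k * a i = 0) :
    Nonempty (LocalizedModule.Away t (Fin c → T) ≃ₗ[Localization.Away t]
      LocalizedModule.Away t N) := by
  let Φ : (Fin c → T) →ₗ[T] N := Fintype.linearCombination T m
  have hΦ : ∀ a, Φ a = ∑ i, a i • m i := fun a => Fintype.linearCombination_apply T m a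
  have hinj : Function.Injective (LocalizedModule.map (Submonoid.powers t) Φ) := by
    rw [injective_iff_map_eq_zero]
    intro x hx
    induction x using LocalizedModule.induction_on with | _ a s
    rw [LocalizedModule.map_mk, ← LocalizedModule.zero_mk s, LocalizedModule.mk_eq] at hx
    obtain ⟨u, hu⟩ := hx
    rw [smul_zero, smul_zero] at hu
    obtain ⟨⟨_, j, rfl⟩, hu'⟩ : ∃ u' : Submonoid.powers t, (u' : T) • Φ a = 0 := by
      refine ⟨u * s, ?_⟩
      rw [Submonoid.coe_mul, mul_smul]
      exact hu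
    have h1 : Φ ((t ^ j) • a) = 0 := by rw [map_smul]; exact hu'
    rw [hΦ] at h1
    obtain ⟨k, hk⟩ := hind _ h1
    rw [← LocalizedModule.zero_mk s, LocalizedModule.mk_eq]
    refine ⟨⟨t ^ (k + j), k + j, rfl⟩, ?_⟩
    rw [smul_zero, smul_zero]
    change t ^ (k + j) • (s : T) • a = 0
    rw [smul_comm]
    have : t ^ (k + j) • a = 0 := by
      funext i
      rw [Pi.smul_apply, Pi.zero_apply, smul_eq_mul, pow_add, mul_assoc]
      exact hk i
    rw [this, smul_zero]
  have hsurj : Function.Surjective (LocalizedModule.map (Submonoid.powers t) Φ) := by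
    intro y
    induction y using LocalizedModule.induction_on with | _ x s
    obtain ⟨k, hk⟩ := hgen x
    have hrange : Submodule.span T (Set.range m) = LinearMap.range Φ :=
      (Fintype.range_linearCombination T m).symm
    rw [hrange] at hk
    obtain ⟨a, ha⟩ := hk
    refine ⟨LocalizedModule.mk a (⟨t ^ k, k, rfl⟩ * s), ?_⟩
    rw [LocalizedModule.map_mk, LocalizedModule.mk_eq]
    refine ⟨1, ?_⟩
    rw [one_smul, one_smul, ha]
    change (s : T) • t ^ k • x = ((t ^ k) * (s : T)) • x
    rw [mul_comm, mul_smul]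
  exact ⟨LinearEquiv.ofBijective (LocalizedModule.map (Submonoid.powers t) Φ) ⟨hinj, hsurj⟩⟩

/-- under the same hypotheses, `N` has rank `c` at all primes of `D(t)`, provided `N` is finite
and flat -/
theorem rankAtStalk_eq_of_gen_ind [Module.Finite T N] [Module.Flat T N] (t : T) {c : ℕ}
    (m : Fin c → N)
    (hgen : ∀ x : N, ∃ k : ℕ, t ^ k • x ∈ Submodule.span T (Set.range m))
    (hind : ∀ a : Fin c → T, ∑ i, a i • m i = 0 → ∃ k : ℕ, ∀ i, t ^ k * a i = 0)
    (q : PrimeSpectrum T) (hq : t ∉ q.asIdeal) : Module.rankAtStalk N q = c := by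
  obtain ⟨e⟩ := nonempty_linearEquiv_localizedModule_away t m hgen hind
  have hdisj : Disjoint (Submonoid.powers t : Set T) (q.asIdeal : Set T) := by
    rw [Ideal.disjoint_powers_iff_notMem_of_isPrime]
    exact hq
  haveI hp' : (q.asIdeal.map (algebraMap T (Localization.Away t))).IsPrime :=
    IsLocalization.isPrime_of_isPrime_disjoint (Submonoid.powers t) _ _ q.2 hdisj
  let p' : PrimeSpectrum (Localization.Away t) := ⟨_, hp'⟩
  have hcomap : p'.comap (algebraMap T (Localization.Away t)) = q := by
    apply PrimeSpectrum.ext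
    exact IsLocalization.under_map_of_isPrime_disjoint (Submonoid.powers t) _ q.2 hdisj
  haveI : Nontrivial (Localization.Away t) := ⟨⟨0, 1, fun h01 => hp'.ne_top (by
    rw [Ideal.eq_top_iff_one, ← h01]; exact zero_mem _)⟩⟩
  have h1 := Module.rankAtStalk_baseChange (R := T) (M := N) (S := Localization.Away t) p'
  rw [hcomap] at h1
  rw [← h1]
  let e2 : Localization.Away t ⊗[T] N ≃ₗ[Localization.Away t] LocalizedModule.Away t (Fin c → T) :=
    (LocalizedModule.equivTensorProduct (Submonoid.powers t) N).symm.trans e.symm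
  haveI : Module.Free (Localization.Away t) (LocalizedModule.Away t (Fin c → T)) :=
    Module.free_of_isLocalizedModule (Submonoid.powers t)
      (LocalizedModule.mkLinearMap (Submonoid.powers t) (Fin c → T))
  haveI : Module.Free (Localization.Away t) (Localization.Away t ⊗[T] N) :=
    Module.Free.of_equiv e2.symm
  rw [Module.rankAtStalk_eq_finrank_of_free, Pi.natCast_def] 
  change Module.finrank (Localization.Away t) (Localization.Away t ⊗[T] N) = c
  rw [e2.finrank_eq, Module.finrank_of_isLocalizedModule_of_free (Localization.Away t)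
    (Submonoid.powers t) (LocalizedModule.mkLinearMap (Submonoid.powers t) (Fin c → T))]
  haveI : Nontrivial T := ⟨⟨0, 1, fun h01 => q.2.ne_top (by
    rw [Ideal.eq_top_iff_one, ← h01]; exact zero_mem _)⟩⟩
  exact Module.finrank_fin_fun T

end LocFree

section Local

open Groth.Agent.Lib.Helper82.RelGCIDescent Groth.Agent.Lib.Helper82.SyntLocal

variable (k : Type u) [CommRing k] (n : ℕ)

local notation "P" => MvPolynomial (Fin n) k

/-- the conormal module of a syntomic quotient of a polynomial ring is finite projective -/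
theorem cotangent_finite_projective' (J : Ideal P) (hJ : J.FG)
    (hsyn : Synt.IsSyntomic k (P ⧸ J)) :
    Module.Finite (P ⧸ J) J.Cotangent ∧ Module.Projective (P ⧸ J) J.Cotangent := by
  have hfinJ : Module.Finite P J := Module.Finite.of_fg hJ
  have hfin0 : Module.Finite P J.Cotangent :=
    Module.Finite.of_surjective J.toCotangent J.toCotangent_surjective
  have hfin1 : Module.Finite (P ⧸ J) J.Cotangent :=
    Module.Finite.of_restrictScalars_finite P _ _
  refine ⟨hfin1, projective_of_locally_free fun 𝔮 h𝔮 => ?_⟩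
  haveI : 𝔮.IsPrime := h𝔮.isPrime
  obtain ⟨h, c, F, hh, hF, hhI, hrel⟩ := exists_local_data k n J hJ 𝔮
    ⟨1, fun h1 => h𝔮.ne_top ((Ideal.eq_top_iff_one _).mpr h1), isSyntomic_away hsyn 1⟩
  have hQR := quasiRegular_of_isRelGCI k n c F h hrel
  refine ⟨Ideal.Quotient.mk J h, hh, free_localizedModule_away _
    (fun i => J.toCotangent ⟨F i, hF i⟩) (fun x => ⟨1, ?_⟩) (ind₀ J F hF h hhI hQR)⟩
  rw [pow_one]
  exact gen₀ J F hF h hhI x

/-- a further principal localization of a relative global complete intersection is one -/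
theorem isRelGCI_away {c : ℕ} (F : Fin c → P) (h : Synt.IsRelGCI k n c F) (hcn : c ≤ n) (g : P) :
    Synt.IsRelGCI k (n + 1) (c + 1) (F' k n c F g) :=
  isRelGCI_F' k n c F g hcn (fun p' Q hQ =>
    localDim_le_of_basicOpen_subset (n - c) _
      (fun q _ => (mem_fibLocus_of_isRelGCI k n c F h q).2) p' Q hQ)

theorem exists_local_model (J : Ideal P) (hJ : J.FG) (hsyn : Synt.IsSyntomic k (P ⧸ J))
    (q₀ : Ideal (P ⧸ J)) [q₀.IsPrime] :
    ∃ (c : ℕ) (tstar : P ⧸ J), c ≤ n ∧ tstar ∉ q₀ ∧
      (∀ q' : PrimeSpectrum (P ⧸ J), tstar ∉ q'.asIdeal →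
        Module.rankAtStalk J.Cotangent q' = c) ∧
      (∀ t' : P ⧸ J, ∃ (n' c' : ℕ) (G : Fin c' → MvPolynomial (Fin n') k),
        Synt.IsRelGCI k n' c' G ∧ c' ≤ n' ∧ n' - c' = n - c ∧
        Nonempty (Localization.Away (tstar * t') ≃ₐ[k] Synt.RelGCIRing k n' c' G)) := by
  classical
  obtain ⟨hfin, hproj⟩ := cotangent_finite_projective' k n J hJ hsyn
  obtain ⟨h, c, F, hh, hF, hhI, hrel⟩ := exists_local_data k n J hJ q₀
    ⟨1, fun h1 => (Ideal.IsPrime.ne_top inferInstance) ((Ideal.eq_top_iff_one _).mpr h1),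
      isSyntomic_away hsyn 1⟩
  have hQR := quasiRegular_of_isRelGCI k n c F h hrel
  have hJI : Ideal.span (Set.range F) ≤ J :=
    Ideal.span_le.mpr (by rintro _ ⟨i, rfl⟩; exact hF i)
  obtain ⟨e₀⟩ := nonempty_algEquiv_away_quotient k J (Ideal.span (Set.range F)) hJI h hhI
  let e₁ : Localization.Away (Ideal.Quotient.mk J h) ≃ₐ[k]
      Synt.RelGCIRing k (n + 1) (c + 1) (F' k n c F h) := e₀.trans (awayEquiv k n c F h)
  -- nontriviality, hence `c ≤ n`
  have hunit : IsUnit (algebraMap (P ⧸ J) (Localization.AtPrime q₀) (Ideal.Quotient.mk J h)) :=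
    IsLocalization.map_units (M := q₀.primeCompl) _ ⟨_, hh⟩
  let l : Localization.Away (Ideal.Quotient.mk J h) →+* Localization.AtPrime q₀ :=
    IsLocalization.Away.lift (Ideal.Quotient.mk J h) hunit
  haveI : Nontrivial (Localization.Away (Ideal.Quotient.mk J h)) := l.domain_nontrivial
  haveI : Nontrivial (Synt.RelGCIRing k (n + 1) (c + 1) (F' k n c F h)) :=
    e₁.symm.toRingEquiv.toEquiv.nontrivial
  obtain ⟨M, hM⟩ := Ideal.exists_maximal (Synt.RelGCIRing k (n + 1) (c + 1) (F' k n c F h))
  have hc1 := (mem_fibLocus_of_isRelGCI k (n + 1) (c + 1) _ hrel ⟨M, hM.isPrime⟩).1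
  have hcn : c ≤ n := by omega
  refine ⟨c, Ideal.Quotient.mk J h, hcn, hh, ?_, ?_⟩
  · intro q' hq'
    haveI : Module.Flat (P ⧸ J) J.Cotangent := inferInstance
    exact rankAtStalk_eq_of_gen_ind (Ideal.Quotient.mk J h)
      (fun i => J.toCotangent ⟨F i, hF i⟩)
      (fun x => ⟨1, by rw [pow_one]; exact gen₀ J F hF h hhI x⟩) (ind₀ J F hF h hhI hQR) q' hq'
  · intro t'
    set y := e₁ (algebraMap (P ⧸ J) (Localization.Away (Ideal.Quotient.mk J h)) t') with hy
    obtain ⟨h₂, hh₂⟩ := Ideal.Quotient.mk_surjective y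
    refine ⟨n + 1 + 1, c + 1 + 1, F' k (n + 1) (c + 1) (F' k n c F h) h₂,
      isRelGCI_away k (n + 1) _ hrel hc1 h₂, by omega, by omega, ?_⟩
    haveI : IsLocalization.Away (Ideal.Quotient.mk J h * t')
        (Localization.Away (algebraMap (P ⧸ J) (Localization.Away (Ideal.Quotient.mk J h)) t')) :=
      IsLocalization.Away.mul' (Localization.Away (Ideal.Quotient.mk J h)) _ _ _
    let a₁ := awayEquivOfIsLocalization (R := k) (Ideal.Quotient.mk J h * t')
      (Localization.Away (algebraMap (P ⧸ J) (Localization.Away (Ideal.Quotient.mk J h)) t'))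
    let a₂ := awayCongr e₁ (algebraMap (P ⧸ J) (Localization.Away (Ideal.Quotient.mk J h)) t')
    let a₃ := awayEquiv k (n + 1) (c + 1) (F' k n c F h) h₂
    rw [hh₂] at a₃
    exact ⟨a₁.trans (a₂.trans a₃)⟩

end Local

end Groth.Agent.H8.SL
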