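import Mathlib
import Groth.Prelude.Def_RegImm
import Groth.Agent.H8.SL.T0Local
import Groth.Agent.S2044

/-!
# The étale neighbourhood and the ideal used to lift a syntomic algebra (Stacks 07M8)

Let `T₀ = (R/I)[x]/J₀` be syntomic over `R/I`. We construct an étale `R[x]`-algebra `E` with a
surjection `χ : E → T₀` (an étale neighbourhood of `V(𝔞)`, `𝔞 = ker (R[x] → T₀)`), a finite
projective `E`-module `P'` lifting the conormal module `J₀/J₀²`, and a linear map `φ : P' → E` whose
image `K` satisfies `K ⊆ ker χ` and `g · ker χ ⊆ K + I E` for some `g ≡ 1`.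
-/

set_option autoImplicit false
set_option linter.style.haveILetI false
set_option linter.unusedSectionVars false
universe u

namespace Groth.Agent.H8.SL

open TensorProduct MvPolynomial

section

variable (R : Type u) [CommRing R] (I : Ideal R) (n : ℕ)

local notation "B" => MvPolynomial (Fin n) R
local notation "B₀" => MvPolynomial (Fin n) (R ⧸ I)

theorem exists_construction_aux
    (J₀ : Ideal B₀) (hJ₀ : J₀.FG) (hsyn : Synt.IsSyntomic (R ⧸ I) (B₀ ⧸ J₀)) :
    ∃ (E : Type u) (_ : CommRing E) (_ : Algebra B E),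
      Algebra.Etale B E ∧
      ∃ χ : E →+* (B₀ ⧸ J₀), Function.Surjective χ ∧
        (∀ b : B, χ (algebraMap B E b) =
          Ideal.Quotient.mk J₀ (MvPolynomial.map (Ideal.Quotient.mk I) b)) ∧
        RingHom.ker χ = (RingHom.ker ((Ideal.Quotient.mk J₀).comp
          (MvPolynomial.map (Ideal.Quotient.mk I) : B →+* B₀))).map (algebraMap B E) ∧
        ∃ (P' : Type u) (_ : AddCommGroup P') (_ : Module E P'), Module.Finite E P' ∧
          Module.Projective E P' ∧
          (∀ q₀ : PrimeSpectrum (B₀ ⧸ J₀),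
            Module.rankAtStalk P' (q₀.comap χ) =
              Module.rankAtStalk (R := B₀ ⧸ J₀) J₀.Cotangent q₀) ∧
          ∃ γ : P' → J₀.Cotangent, Function.Surjective γ ∧ (∀ x y, γ (x + y) = γ x + γ y) ∧
            ∀ (e : E) (x : P'), γ (e • x) = χ e • γ x := by
  classical
  let red : B →+* B₀ := MvPolynomial.map (Ideal.Quotient.mk I)
  have hred : Function.Surjective red :=
    MvPolynomial.map_surjective _ Ideal.Quotient.mk_surjective
  let π : B →+* (B₀ ⧸ J₀) := (Ideal.Quotient.mk J₀).comp red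
  have hπ : Function.Surjective π := Ideal.Quotient.mk_surjective.comp hred
  let σ : (B ⧸ RingHom.ker π) ≃+* (B₀ ⧸ J₀) := RingHom.quotientKerEquivOfSurjective hπ
  have hσ : ∀ b : B, σ (Ideal.Quotient.mk _ b) = π b := fun b => rfl
  letI alg₀ : Algebra (B₀ ⧸ J₀) (B ⧸ RingHom.ker π) := σ.symm.toRingHom.toAlgebra
  have halg₀ : ∀ t : B₀ ⧸ J₀, @algebraMap _ _ _ _ alg₀ t = σ.symm t := fun t => rfl
  obtain ⟨hMfin, hMproj⟩ := cotangent_finite_projective' (R ⧸ I) n J₀ hJ₀ hsyn
  obtain ⟨E, _, _, hEt, hbij, P', _, _, hP'fin, hP'proj, ⟨Ψ⟩⟩ :=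
    Groth.Agent.S2044.result (RingHom.ker π) ((B ⧸ RingHom.ker π) ⊗[B₀ ⧸ J₀] J₀.Cotangent)
  refine ⟨E, inferInstance, inferInstance, hEt, ?_⟩
  let β : (B ⧸ RingHom.ker π) ≃+* (E ⧸ (RingHom.ker π).map (algebraMap B E)) :=
    RingEquiv.ofBijective _ hbij
  have hβ : ∀ t, β t = algebraMap _ _ t := fun t => rfl
  let ν : (E ⧸ (RingHom.ker π).map (algebraMap B E)) →+* (B₀ ⧸ J₀) :=
    σ.toRingHom.comp β.symm.toRingHom
  have hν : ∀ t, ν (algebraMap _ _ t) = σ t := by
    intro t
    change σ (β.symm (algebraMap _ _ t)) = σ t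
    rw [← hβ, RingEquiv.symm_apply_apply]
  let χ : E →+* (B₀ ⧸ J₀) := ν.comp (Ideal.Quotient.mk _)
  have hχs : Function.Surjective χ :=
    (σ.surjective.comp β.symm.surjective).comp Ideal.Quotient.mk_surjective
  have hχB : ∀ b : B, χ (algebraMap B E b) = π b := by
    intro b
    change ν (Ideal.Quotient.mk _ (algebraMap B E b)) = _
    have : (Ideal.Quotient.mk ((RingHom.ker π).map (algebraMap B E))) (algebraMap B E b) =
        algebraMap (B ⧸ RingHom.ker π) _ (Ideal.Quotient.mk _ b) := rfl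
    rw [this, hν, hσ]
  have hχk : RingHom.ker χ = (RingHom.ker π).map (algebraMap B E) := by
    ext x
    rw [RingHom.mem_ker]
    change σ (β.symm (Ideal.Quotient.mk _ x)) = 0 ↔ _
    rw [map_eq_zero_iff σ σ.injective, map_eq_zero_iff β.symm β.symm.injective,
      Ideal.Quotient.eq_zero_iff_mem]
  refine ⟨χ, hχs, hχB, hχk, P', inferInstance, inferInstance, hP'fin, hP'proj, ?_, ?_⟩
  · -- ranks
    intro q₀
    let p : PrimeSpectrum (E ⧸ (RingHom.ker π).map (algebraMap B E)) := q₀.comap ν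
    have h1 := Module.rankAtStalk_baseChange (R := E) (M := P')
      (S := E ⧸ (RingHom.ker π).map (algebraMap B E)) p
    have h2 := congrFun (Module.rankAtStalk_eq_of_equiv Ψ) p
    have h3 := Module.rankAtStalk_baseChange (R := B ⧸ RingHom.ker π)
      (M := (B ⧸ RingHom.ker π) ⊗[B₀ ⧸ J₀] J₀.Cotangent)
      (S := E ⧸ (RingHom.ker π).map (algebraMap B E)) p
    have h4 := Module.rankAtStalk_baseChange (R := B₀ ⧸ J₀) (M := J₀.Cotangent)
      (S := B ⧸ RingHom.ker π) (p.comap (algebraMap _ _))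
    have hp1 : p.comap (algebraMap E _) = q₀.comap χ := rfl
    have hp2 : (p.comap (algebraMap (B ⧸ RingHom.ker π) _)).comap
        (algebraMap (B₀ ⧸ J₀) (B ⧸ RingHom.ker π)) = q₀ := by
      apply PrimeSpectrum.ext
      ext x
      change ν (algebraMap _ _ (algebraMap _ _ x)) ∈ q₀.asIdeal ↔ _
      rw [hν, halg₀, RingEquiv.apply_symm_apply]
    rw [← hp1, ← h1, h2, h3, h4, hp2]
  · -- the surjection `P' → J₀/J₀²`
    letI alg₁ : Algebra (B₀ ⧸ J₀) (E ⧸ (RingHom.ker π).map (algebraMap B E)) :=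
      ((algebraMap (B ⧸ RingHom.ker π) (E ⧸ (RingHom.ker π).map (algebraMap B E))).comp
        (@algebraMap _ _ _ _ alg₀)).toAlgebra
    haveI : IsScalarTower (B₀ ⧸ J₀) (B ⧸ RingHom.ker π)
        (E ⧸ (RingHom.ker π).map (algebraMap B E)) := IsScalarTower.of_algebraMap_eq' rfl
    have halg₁ : ∀ t : B₀ ⧸ J₀, @algebraMap _ _ _ _ alg₁ t = β (σ.symm t) := fun t => rfl
    have hb₀ : Function.Bijective (Algebra.linearMap (B₀ ⧸ J₀)
        (E ⧸ (RingHom.ker π).map (algebraMap B E))) := by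
      change Function.Bijective (fun t => β (σ.symm t))
      exact β.bijective.comp σ.symm.bijective
    let c₁ := AlgebraTensorModule.cancelBaseChange (B₀ ⧸ J₀) (B ⧸ RingHom.ker π)
      (E ⧸ (RingHom.ker π).map (algebraMap B E)) (E ⧸ (RingHom.ker π).map (algebraMap B E))
      J₀.Cotangent
    let l₀ : (E ⧸ (RingHom.ker π).map (algebraMap B E)) ⊗[B₀ ⧸ J₀] J₀.Cotangent ≃ₗ[B₀ ⧸ J₀]
        J₀.Cotangent :=
      (TensorProduct.congr (LinearEquiv.ofBijective (Algebra.linearMap (B₀ ⧸ J₀)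
        (E ⧸ (RingHom.ker π).map (algebraMap B E))) hb₀).symm
        (LinearEquiv.refl (B₀ ⧸ J₀) J₀.Cotangent)).trans (TensorProduct.lid (B₀ ⧸ J₀) J₀.Cotangent)
    let ρ₁ : P' → (E ⧸ (RingHom.ker π).map (algebraMap B E)) ⊗[E] P' := fun x => 1 ⊗ₜ[E] x
    have hρ₁s : Function.Surjective ρ₁ := by
      intro z
      induction z using TensorProduct.induction_on with
      | zero => exact ⟨0, by simp [ρ₁]⟩
      | tmul t x =>
        obtain ⟨e, rfl⟩ := Ideal.Quotient.mk_surjective t
        refine ⟨e • x, ?_⟩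
        change (1 : E ⧸ (RingHom.ker π).map (algebraMap B E)) ⊗ₜ[E] (e • x) = _
        rw [← TensorProduct.smul_tmul]
        congr 1
        rw [Algebra.smul_def, mul_one]
        rfl
      | add z₁ z₂ h₁ h₂ =>
        obtain ⟨x₁, rfl⟩ := h₁
        obtain ⟨x₂, rfl⟩ := h₂
        exact ⟨x₁ + x₂, by simp [ρ₁, TensorProduct.tmul_add]⟩
    refine ⟨fun x => l₀ (c₁ (Ψ (ρ₁ x))), ?_, ?_, ?_⟩
    · exact l₀.surjective.comp (c₁.surjective.comp (Ψ.surjective.comp hρ₁s))
    · intro x y
      simp only [ρ₁, TensorProduct.tmul_add, map_add]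
    · intro e x
      have h1 : ρ₁ (e • x) =
          (Ideal.Quotient.mk ((RingHom.ker π).map (algebraMap B E)) e) • ρ₁ x := by
        change (1 : E ⧸ (RingHom.ker π).map (algebraMap B E)) ⊗ₜ[E] (e • x) = _ • (1 ⊗ₜ[E] x)
        rw [TensorProduct.smul_tmul', ← TensorProduct.smul_tmul]
        congr 1
      have h2 : Ideal.Quotient.mk ((RingHom.ker π).map (algebraMap B E)) e =
          @algebraMap _ _ _ _ alg₁ (χ e) := by
        rw [halg₁]
        change _ = β (σ.symm (σ (β.symm (Ideal.Quotient.mk _ e))))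
        rw [RingEquiv.symm_apply_apply, RingEquiv.apply_symm_apply]
      simp only [h1, map_smul]
      rw [h2, algebraMap_smul, map_smul]

open Groth.Agent.Lib.Helper82.CotangentProj in
open scoped Pointwise in
theorem exists_construction
    (J₀ : Ideal B₀) (hJ₀ : J₀.FG) (hsyn : Synt.IsSyntomic (R ⧸ I) (B₀ ⧸ J₀)) :
    ∃ (E : Type u) (_ : CommRing E) (_ : Algebra B E),
      Algebra.Etale B E ∧
      ∃ χ : E →+* (B₀ ⧸ J₀), Function.Surjective χ ∧
        (∀ b : B, χ (algebraMap B E b) =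
          Ideal.Quotient.mk J₀ (MvPolynomial.map (Ideal.Quotient.mk I) b)) ∧
        ∃ (P' : Type u) (_ : AddCommGroup P') (_ : Module E P'), Module.Finite E P' ∧
          Module.Projective E P' ∧
          (∀ q₀ : PrimeSpectrum (B₀ ⧸ J₀),
            Module.rankAtStalk P' (q₀.comap χ) =
              Module.rankAtStalk (R := B₀ ⧸ J₀) J₀.Cotangent q₀) ∧
          ∃ φ : P' →ₗ[E] E, LinearMap.range φ ≤ RingHom.ker χ ∧
            ∃ g : E, χ g = 1 ∧ ∀ a ∈ RingHom.ker χ, g * a ∈
              LinearMap.range φ ⊔ I.map ((algebraMap B E).comp MvPolynomial.C) := by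
  classical
  obtain ⟨E, _, _, hEt, χ, hχs, hχB, hχk, P', _, _, hP'fin, hP'proj, hrank, γ, hγs, hγa, hγe⟩ :=
    exists_construction_aux R I n J₀ hJ₀ hsyn
  refine ⟨E, inferInstance, inferInstance, hEt, χ, hχs, hχB, P', inferInstance, inferInstance,
    hP'fin, hP'proj, hrank, ?_⟩
  let red : B →+* B₀ := MvPolynomial.map (Ideal.Quotient.mk I)
  have hred : Function.Surjective red :=
    MvPolynomial.map_surjective _ Ideal.Quotient.mk_surjective
  have hkred : RingHom.ker red = I.map (MvPolynomial.C : R →+* B) := by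
    rw [MvPolynomial.ker_map, Ideal.mk_ker]
  set π : B →+* (B₀ ⧸ J₀) := (Ideal.Quotient.mk J₀).comp red with hπdef
  have hπ : Function.Surjective π := Ideal.Quotient.mk_surjective.comp hred
  have hχB' : ∀ b : B, χ (algebraMap B E b) = π b := hχB
  have hkπ : RingHom.ker π = J₀.comap red := by
    rw [hπdef, ← RingHom.comap_ker, Ideal.mk_ker]
  have hmapπ : (RingHom.ker π).map red = J₀ := by
    rw [hkπ, Ideal.map_comap_of_surjective red hred]
  set 𝔎 : Ideal E := RingHom.ker χ with h𝔎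
  set IE : Ideal E := I.map ((algebraMap B E).comp MvPolynomial.C) with hIE
  have hIE' : (I.map (MvPolynomial.C : R →+* B)).map (algebraMap B E) = IE := by
    rw [Ideal.map_map]
  -- generators
  obtain ⟨m, fb, hfb⟩ := Submodule.fg_iff_exists_fin_generating_family.mp hJ₀
  have hfbJ : ∀ j, fb j ∈ J₀ := fun j => by
    rw [← hfb]; exact Submodule.subset_span ⟨j, rfl⟩
  choose f hf using fun j => hred (fb j)
  let fE : Fin m → E := fun j => algebraMap B E (f j)
  have hfπ : ∀ j, π (f j) = 0 := fun j => by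
    change Ideal.Quotient.mk J₀ (red (f j)) = 0
    rw [hf j, Ideal.Quotient.eq_zero_iff_mem]
    exact hfbJ j
  have hfE𝔎 : ∀ j, fE j ∈ 𝔎 := fun j => by
    rw [h𝔎, RingHom.mem_ker, hχB', hfπ]
  -- `ker π = (f) + I B`
  have hkπ' : RingHom.ker π = Ideal.span (Set.range f) ⊔ I.map (MvPolynomial.C : R →+* B) := by
    apply le_antisymm
    · intro x hx
      have h1 : red x ∈ J₀ := by
        have := Ideal.mem_map_of_mem red hx
        rwa [hmapπ] at this
      have h2 : J₀ = (Ideal.span (Set.range f)).map red := by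
        rw [Ideal.map_span, ← Set.range_comp, ← hfb]
        congr 2
        funext j
        exact (hf j).symm
      rw [h2] at h1
      obtain ⟨y, hy, hyx⟩ := (Ideal.mem_map_iff_of_surjective red hred).mp h1
      have h3 : x - y ∈ RingHom.ker red := by
        rw [RingHom.mem_ker, map_sub, hyx, sub_self]
      rw [hkred] at h3
      have : x = y + (x - y) := by ring
      rw [this]
      exact Ideal.add_mem _ (Ideal.mem_sup_left hy) (Ideal.mem_sup_right h3)
    · refine sup_le (Ideal.span_le.mpr ?_) ?_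
      · rintro _ ⟨j, rfl⟩
        exact hfπ j
      · rw [← hkred]
        intro x hx
        rw [RingHom.mem_ker] at hx ⊢
        change Ideal.Quotient.mk J₀ (red x) = 0
        rw [hx, map_zero]
  have h𝔎eq : 𝔎 = Ideal.span (Set.range fE) ⊔ IE := by
    rw [hχk, hkπ', Ideal.map_sup, Ideal.map_span, ← Set.range_comp, hIE']
    rfl
  -- linear algebra over `E`
  letI : Module E J₀.Cotangent := Module.compHom J₀.Cotangent χ
  have hsmul : ∀ (e : E) (y : J₀.Cotangent), e • y = χ e • y := fun e y => rfl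
  let γL : P' →ₗ[E] J₀.Cotangent :=
    { toFun := γ
      map_add' := hγa
      map_smul' := fun e x => hγe e x }
  let mb : Fin m → J₀.Cotangent := fun j => J₀.toCotangent ⟨fb j, hfbJ j⟩
  let f' : (Fin m → E) →ₗ[E] J₀.Cotangent := Fintype.linearCombination E mb
  have hf' : ∀ v, f' v = ∑ j, χ (v j) • mb j := fun v => by
    rw [Fintype.linearCombination_apply]
    rfl
  -- a formula for `f'` in terms of polynomials
  have hf'poly : ∀ (v : Fin m → E) (b : Fin m → B), (∀ j, π (b j) = χ (v j)) →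
      f' v = J₀.toCotangent ⟨∑ j, red (b j) * fb j,
        J₀.sum_mem fun j _ => J₀.mul_mem_left _ (hfbJ j)⟩ := by
    intro v b hb
    rw [hf']
    have : (⟨∑ j, red (b j) * fb j, J₀.sum_mem fun j _ => J₀.mul_mem_left _ (hfbJ j)⟩ : J₀) =
        ∑ j, red (b j) • (⟨fb j, hfbJ j⟩ : J₀) := by
      apply Subtype.ext
      rw [Submodule.coe_sum]
      rfl
    rw [this, map_sum]
    refine Finset.sum_congr rfl fun j _ => ?_
    rw [← hb j, ← mk_smul_toCotangent]
    rfl
  have hf's : Function.Surjective f' := by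
    intro y
    obtain ⟨⟨a, ha⟩, rfl⟩ := J₀.toCotangent_surjective y
    have ha' := ha
    rw [← hfb] at ha'
    obtain ⟨c, hc⟩ := (Ideal.mem_span_range_iff_exists_fun).mp ha'
    choose b hb using fun j => hred (c j)
    choose v hv using fun j => hχs (π (b j))
    refine ⟨v, ?_⟩
    rw [hf'poly v b (fun j => (hv j).symm)]
    congr 1
    apply Subtype.ext
    simp only [hb]
    exact hc
  obtain ⟨lam, hlam⟩ := Module.projective_lifting_property f' γL hf's
  have hlam' : ∀ x, f' (lam x) = γ x := fun x => congr($hlam x)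
  let φ : P' →ₗ[E] E := (Fintype.linearCombination E fE) ∘ₗ lam
  have hφ : ∀ x, φ x = ∑ j, lam x j * fE j := fun x => by
    change Fintype.linearCombination E fE (lam x) = _
    rw [Fintype.linearCombination_apply]
    rfl
  have hφ𝔎 : LinearMap.range φ ≤ 𝔎 := by
    rintro _ ⟨x, rfl⟩
    rw [hφ]
    exact 𝔎.sum_mem fun j _ => 𝔎.mul_mem_left _ (hfE𝔎 j)
  -- Claim A
  have hA : ∀ v : Fin m → E, f' v = 0 → ∑ j, v j * fE j ∈ 𝔎 * 𝔎 ⊔ IE := by
    intro v hv
    choose b hb using fun j => hπ (χ (v j))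
    rw [hf'poly v b hb, Ideal.toCotangent_eq_zero] at hv
    change ∑ j, red (b j) * fb j ∈ J₀ ^ 2 at hv
    set w : B := ∑ j, b j * f j with hw
    have hredw : red w = ∑ j, red (b j) * fb j := by
      rw [hw, map_sum]
      refine Finset.sum_congr rfl fun j _ => ?_
      rw [map_mul, hf j]
    rw [← hredw, ← hmapπ, ← Ideal.map_pow] at hv
    obtain ⟨w', hw', hw'w⟩ := (Ideal.mem_map_iff_of_surjective red hred).mp hv
    have h3 : w - w' ∈ I.map (MvPolynomial.C : R →+* B) := by
      rw [← hkred, RingHom.mem_ker, map_sub, hw'w, sub_self]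
    have h4 : algebraMap B E w' ∈ 𝔎 * 𝔎 := by
      have := Ideal.mem_map_of_mem (algebraMap B E) hw'
      rw [Ideal.map_pow, ← hχk, pow_two] at this
      exact this
    have h5 : algebraMap B E (w - w') ∈ IE := by
      rw [← hIE']
      exact Ideal.mem_map_of_mem _ h3
    have h6 : ∑ j, v j * fE j = ∑ j, (v j - algebraMap B E (b j)) * fE j +
        (algebraMap B E w' + algebraMap B E (w - w')) := by
      rw [← map_add, add_sub_cancel, hw, map_sum, ← Finset.sum_add_distrib]
      refine Finset.sum_congr rfl fun j _ => ?_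
      rw [map_mul]
      ring
    rw [h6]
    refine Ideal.add_mem _ (Ideal.mem_sup_left ?_)
      (Ideal.add_mem _ (Ideal.mem_sup_left h4) (Ideal.mem_sup_right h5))
    refine Ideal.sum_mem _ fun j _ => Ideal.mul_mem_mul ?_ (hfE𝔎 j)
    rw [h𝔎, RingHom.mem_ker, map_sub, hχB', hb j, sub_self]
  -- Claim B
  have hB : ∀ j, fE j ∈ LinearMap.range φ ⊔ (𝔎 * 𝔎 ⊔ IE) := by
    intro j
    obtain ⟨x, hx⟩ := hγs (f' (Pi.single j 1))
    have h1 : f' (lam x - Pi.single j 1) = 0 := by
      rw [map_sub, hlam', hx, sub_self]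
    have h2 := hA _ h1
    have h3 : ∑ l, (lam x - Pi.single j 1 : Fin m → E) l * fE l = φ x - fE j := by
      rw [hφ]
      simp only [Pi.sub_apply, sub_mul, Finset.sum_sub_distrib]
      congr 1
      rw [Finset.sum_eq_single j]
      · simp
      · intro l _ hl
        simp [Pi.single_apply, hl]
      · intro h; exact absurd (Finset.mem_univ j) h
    rw [h3] at h2
    have h4 : fE j = φ x - (φ x - fE j) := by ring
    rw [h4]
    exact Submodule.sub_mem _ (Submodule.mem_sup_left ⟨x, rfl⟩) (Submodule.mem_sup_right h2)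
  refine ⟨φ, hφ𝔎, ?_⟩
  -- Nakayama
  have hfg : (Ideal.span (Set.range fE) : Submodule E E).FG :=
    Submodule.fg_span (Set.finite_range fE)
  have hN'le : (Ideal.span (Set.range fE) : Submodule E E) ≤ 𝔎 := by
    rw [h𝔎eq]; exact le_sup_left
  have hmulle : 𝔎 * 𝔎 ≤ 𝔎 * Ideal.span (Set.range fE) ⊔ IE := by
    calc 𝔎 * 𝔎 ≤ 𝔎 * (Ideal.span (Set.range fE) ⊔ IE) := Ideal.mul_mono_right h𝔎eq.le
      _ = 𝔎 * Ideal.span (Set.range fE) ⊔ 𝔎 * IE := Ideal.mul_sup _ _ _
      _ ≤ 𝔎 * Ideal.span (Set.range fE) ⊔ IE := sup_le_sup_left Ideal.mul_le_right _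
  have hNN' : (𝔎 : Submodule E E) ≤ (LinearMap.range φ ⊔ IE) ⊔
      𝔎 • (Ideal.span (Set.range fE) : Submodule E E) := by
    conv_lhs => rw [h𝔎eq]
    refine sup_le (Ideal.span_le.mpr ?_) (le_trans le_sup_right le_sup_left)
    rintro _ ⟨j, rfl⟩
    have := hB j
    refine (sup_le ?_ ?_ : LinearMap.range φ ⊔ (𝔎 * 𝔎 ⊔ IE) ≤ _) this
    · exact le_trans le_sup_left le_sup_left
    · refine sup_le (le_trans hmulle (sup_le ?_ ?_)) (le_trans le_sup_right le_sup_left)
      · rw [Ideal.smul_eq_mul]; exact le_sup_right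
      · exact le_trans le_sup_right le_sup_left
  obtain ⟨r, hr1, hr2⟩ :=
    Submodule.exists_sub_one_mem_and_smul_le_of_fg_of_le_sup hfg hN'le hNN'
  refine ⟨r, ?_, fun a ha => ?_⟩
  · have : χ (r - 1) = 0 := hr1
    rw [map_sub, map_one, sub_eq_zero] at this
    exact this
  · have h1 : r • a ∈ r • (𝔎 : Submodule E E) := Submodule.smul_mem_pointwise_smul a r _ ha
    exact hr2 h1

end

end Groth.Agent.H8.SL
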