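import Mathlib

/-!
# Generators of the image of a locally free module

If `P'` is an `E`-module whose localization at `r` is free of rank `c`, and `φ : P' → E` is linear,
then the extension of the ideal `range φ` to any `E`-algebra in which `r` is invertible is generated
by `c` elements.
-/

set_option autoImplicit false
set_option linter.style.haveILetI false
set_option linter.unusedSectionVars false
universe u

namespace Groth.Agent.H8.SL

open TensorProduct

theorem exists_generators_map_range {E : Type u} [CommRing E] {P' : Type u} [AddCommGroup P']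
    [Module E P'] (φ : P' →ₗ[E] E) (r : E) (c : ℕ)
    [Nontrivial (Localization.Away r)]
    [Module.Free (Localization.Away r) (LocalizedModule (Submonoid.powers r) P')]
    [Module.Finite (Localization.Away r) (LocalizedModule (Submonoid.powers r) P')]
    (hc : Module.finrank (Localization.Away r) (LocalizedModule (Submonoid.powers r) P') = c)
    (E' : Type u) [CommRing E'] [Algebra E E'] (hr : IsUnit (algebraMap E E' r)) :
    ∃ k' : Fin c → E', Ideal.span (Set.range k') =
      Ideal.map (algebraMap E E') (LinearMap.range φ) := by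
  classical
  letI : Algebra (Localization.Away r) E' := (IsLocalization.Away.lift r hr).toAlgebra
  haveI : IsScalarTower E (Localization.Away r) E' :=
    IsScalarTower.of_algebraMap_eq (fun x => (IsLocalization.Away.lift_eq r hr x).symm)
  let b : Module.Basis (Fin c) (Localization.Away r) (LocalizedModule (Submonoid.powers r) P') :=
    Module.finBasisOfFinrankEq _ _ hc
  let e₁ : Localization.Away r ⊗[E] P' ≃ₗ[Localization.Away r]
      LocalizedModule (Submonoid.powers r) P' :=
    (LocalizedModule.equivTensorProduct (Submonoid.powers r) P').symm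
  let e₂ : E' ⊗[Localization.Away r] (Localization.Away r ⊗[E] P') ≃ₗ[E'] E' ⊗[E] P' :=
    AlgebraTensorModule.cancelBaseChange E (Localization.Away r) E' E' P'
  let b' : Module.Basis (Fin c) E' (E' ⊗[E] P') := ((b.map e₁.symm).baseChange E').map e₂
  let ψ : E' ⊗[E] P' →ₗ[E'] E' := LinearMap.liftBaseChange E' ((Algebra.linearMap E E') ∘ₗ φ)
  have hψ : ∀ (a : E') (x : P'), ψ (a ⊗ₜ x) = a * algebraMap E E' (φ x) := by
    intro a x
    simp [ψ, LinearMap.liftBaseChange_tmul]
  refine ⟨fun j => ψ (b' j), ?_⟩
  have h1 : (Ideal.span (Set.range fun j => ψ (b' j)) : Submodule E' E') = LinearMap.range ψ := by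
    rw [LinearMap.range_eq_map, ← b'.span_eq, Submodule.map_span, ← Set.range_comp]
    rfl
  rw [h1]
  apply le_antisymm
  · rintro _ ⟨z, rfl⟩
    induction z using TensorProduct.induction_on with
    | zero => rw [map_zero]; exact zero_mem _
    | tmul a x =>
      rw [hψ]
      exact Ideal.mul_mem_left _ _ (Ideal.mem_map_of_mem _ ⟨x, rfl⟩)
    | add z₁ z₂ h₁ h₂ =>
      rw [map_add]
      exact Ideal.add_mem _ h₁ h₂
  · rw [Ideal.map_le_iff_le_comap]
    rintro _ ⟨x, rfl⟩
    rw [Ideal.mem_comap]
    refine ⟨1 ⊗ₜ x, ?_⟩
    rw [hψ, one_mul]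

end Groth.Agent.H8.SL
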