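import Mathlib
import Groth.Prelude.Def_RegImm
import Groth.Agent.H8.SL.Basic
import Groth.Agent.Lib.Helper82.SyntLift
import Groth.Agent.Lib.Helper82.RelGCIFlat

/-!
# A local criterion: a finitely presented algebra whose reduction mod `I` is a relative global
complete intersection of the expected relative dimension is syntomic near `V(I)`
-/

set_option autoImplicit false
set_option linter.style.haveILetI false
set_option linter.unusedSectionVars false
universe u

namespace Groth.Agent.H8.SL

open TensorProduct MvPolynomial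

/-- two surjections with the same kernel have isomorphic targets -/
noncomputable def equivOfKerEq {X Y Z : Type*} [CommRing X] [CommRing Y] [CommRing Z]
    (f : X →+* Y) (g : X →+* Z) (hf : Function.Surjective f) (hg : Function.Surjective g)
    (h : RingHom.ker f = RingHom.ker g) : Y ≃+* Z :=
  (RingHom.quotientKerEquivOfSurjective hf).symm.trans
    ((Ideal.quotEquivOfEq h).trans (RingHom.quotientKerEquivOfSurjective hg))

theorem equivOfKerEq_apply {X Y Z : Type*} [CommRing X] [CommRing Y] [CommRing Z]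
    (f : X →+* Y) (g : X →+* Z) (hf : Function.Surjective f) (hg : Function.Surjective g)
    (h : RingHom.ker f = RingHom.ker g) (x : X) : equivOfKerEq f g hf hg h (f x) = g x := by
  unfold equivOfKerEq
  have h1 : (RingHom.quotientKerEquivOfSurjective hf).symm (f x) =
      Ideal.Quotient.mk (RingHom.ker f) x := by
    rw [RingEquiv.symm_apply_eq]
    rfl
  rw [RingEquiv.trans_apply, h1, RingEquiv.trans_apply, Ideal.quotEquivOfEq_mk]
  rfl

theorem exists_away_isSyntomic (R : Type u) [CommRing R] (I : Ideal R)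
    (S : Type u) [CommRing S] [Algebra R S] {N m : ℕ}
    (P : Algebra.Presentation R S (Fin N) (Fin m)) (hmN : m ≤ N)
    {n' c' : ℕ} (F' : Fin c' → MvPolynomial (Fin n') (R ⧸ I))
    (hF' : Synt.IsRelGCI (R ⧸ I) n' c' F') (hdim : n' - c' = N - m)
    (e : (S ⧸ I.map (algebraMap R S)) ≃+* Synt.RelGCIRing (R ⧸ I) n' c' F')
    (he : ∀ r : R, e (Ideal.Quotient.mk _ (algebraMap R S r)) =
      algebraMap (R ⧸ I) _ (Ideal.Quotient.mk I r)) :
    ∃ u : S, u - 1 ∈ I.map (algebraMap R S) ∧ Synt.IsSyntomic R (Localization.Away u) := by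
  classical
  set H : Fin m → MvPolynomial (Fin N) R := P.relation with hH
  let SR := Synt.RelGCIRing R N m H
  -- `ψ : R[x]/(H) ≃ S`
  let ψ : SR ≃ₐ[R] S :=
    (Ideal.quotientEquivAlgOfEq R P.span_range_relation_eq_ker).trans
      (P.quotientEquiv.restrictScalars R)
  have hmapψ : (I.map (algebraMap R SR)).map (ψ : SR →+* S) = I.map (algebraMap R S) := by
    rw [Ideal.map_map]
    congr 1
    ext r
    exact ψ.commutes r
  -- the two surjections from `SR`
  let φ := Groth.Agent.Lib.Helper82.RelGCIQuot.φ R N m H I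
  have hφs := Groth.Agent.Lib.Helper82.RelGCIQuot.φ_surjective R N m H I
  have hφk := Groth.Agent.Lib.Helper82.SyntLift.φ_ker_eq R I N m H
  let ρ : SR →+* Synt.RelGCIRing (R ⧸ I) n' c' F' :=
    (e : _ →+* _).comp ((Ideal.Quotient.mk (I.map (algebraMap R S))).comp (ψ : SR →+* S))
  have hρs : Function.Surjective ρ :=
    e.surjective.comp (Ideal.Quotient.mk_surjective.comp ψ.surjective)
  have hρk : RingHom.ker ρ = I.map (algebraMap R SR) := by
    ext x
    rw [RingHom.mem_ker]
    change e (Ideal.Quotient.mk _ (ψ x)) = 0 ↔ _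
    rw [map_eq_zero_iff e e.injective, Ideal.Quotient.eq_zero_iff_mem, ← hmapψ]
    constructor
    · intro hx
      have := Ideal.mem_map_of_mem (ψ.symm : S →+* SR) hx
      rw [Ideal.map_map] at this
      have hid : ((ψ.symm : S →+* SR).comp (ψ : SR →+* S)) = RingHom.id SR :=
        RingHom.ext fun y => ψ.symm_apply_apply y
      rw [hid, Ideal.map_id] at this
      have h2 : (ψ.symm : S →+* SR) (ψ x) = x := ψ.symm_apply_apply x
      rwa [h2] at this
    · intro hx
      exact Ideal.mem_map_of_mem _ hx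
  let ε := equivOfKerEq φ ρ hφs hρs (hφk.trans hρk.symm)
  have hε : ∀ x, ε (φ x) = ρ x := equivOfKerEq_apply φ ρ hφs hρs (hφk.trans hρk.symm)
  let Hb : Fin m → MvPolynomial (Fin N) (R ⧸ I) := fun i => MvPolynomial.map (Ideal.Quotient.mk I) (H i)
  have hcomm : ∀ r : R ⧸ I, ε (algebraMap (R ⧸ I) (Synt.RelGCIRing (R ⧸ I) N m Hb) r) =
      algebraMap (R ⧸ I) _ r := by
    intro r
    obtain ⟨r, rfl⟩ := Ideal.Quotient.mk_surjective r
    have h1 := RingHom.congr_fun (Groth.Agent.Lib.Helper82.RelGCIQuot.φ_comp R N m H I) r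
    simp only [RingHom.comp_apply] at h1
    rw [← h1, hε]
    change e (Ideal.Quotient.mk _ (ψ (algebraMap R SR r))) = _
    rw [ψ.commutes, he]
  let εA : Synt.RelGCIRing (R ⧸ I) N m Hb ≃ₐ[R ⧸ I] Synt.RelGCIRing (R ⧸ I) n' c' F' :=
    { ε with commutes' := hcomm }
  have hrel : Synt.IsRelGCI (R ⧸ I) N m Hb :=
    isRelGCI_of_algEquiv F' Hb hF' εA.symm hmN hdim
  obtain ⟨h, hh1, hrel', ⟨eT⟩⟩ :=
    Groth.Agent.Lib.Helper82.RelGCIQuot.exists_away_of_isRelGCI_quotient R N m H I hrel
  set g₁ : SR := Ideal.Quotient.mk (Ideal.span (Set.range H)) h with hg₁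
  have hsyn : Synt.IsSyntomic R (Localization.Away g₁) :=
    Groth.Agent.Lib.Helper82.SyntLocal.isSyntomic_of_algEquiv R eT.symm
      (Groth.Agent.Lib.Helper82.RelGCIFlat.isSyntomic_of_isRelGCI R _ _ _ hrel')
  refine ⟨ψ g₁, ?_, Groth.Agent.Lib.Helper82.SyntLocal.isSyntomic_of_algEquiv R (awayCongr ψ g₁) hsyn⟩
  have h1 : g₁ - 1 ∈ I.map (algebraMap R SR) := by
    rw [← Ideal.Quotient.eq_zero_iff_mem, map_sub, hh1, map_one, sub_self]
  have h2 := Ideal.mem_map_of_mem (ψ : SR →+* S) h1
  rw [hmapψ] at h2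
  simpa using h2

end Groth.Agent.H8.SL
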