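import Mathlib

/-!
# Counting generators and relations

For an étale algebra `E` over `R[x_1..x_n]`, `h ∈ E` and `c ≤ n` elements `k'` of `E_h`, the
`R`-algebra `E_h/(k')` has a presentation with `N` generators and `m` relations, `N - m = n - c`.
-/

set_option autoImplicit false
set_option linter.style.haveILetI false
set_option linter.unusedSectionVars false
universe u

namespace Groth.Agent.H8.SL

open MvPolynomial

/-- the presentation of a quotient by finitely many elements, with no generators -/
noncomputable def presQuot {A : Type u} [CommRing A] {c : ℕ} (k : Fin c → A) :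
    Algebra.Presentation A (A ⧸ Ideal.span (Set.range k)) PEmpty.{1} (Fin c) where
  toGenerators := Algebra.Generators.ofSurjectiveAlgebraMap Ideal.Quotient.mk_surjective
  relation j := MvPolynomial.C (k j)
  span_range_relation_eq_ker := by
    classical
    let ε : MvPolynomial PEmpty.{1} A ≃ₐ[A] A := MvPolynomial.isEmptyAlgEquiv A PEmpty.{1}
    have hεC : ∀ a : A, ε (C a) = a := by
      intro a
      rw [← MvPolynomial.algebraMap_eq]
      exact ε.commutes a
    have hε : ∀ x : MvPolynomial PEmpty.{1} A, x = C (ε x) := by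
      intro x
      have h1 : ε (C (ε x)) = ε x := hεC _
      exact (ε.injective h1).symm
    rw [Algebra.Generators.ker_eq_ker_aeval_val]
    ext x
    rw [hε x]
    generalize ε x = a
    have h1 : (C a : MvPolynomial PEmpty.{1} A) ∈
        Ideal.span (Set.range fun j => (C (k j) : MvPolynomial PEmpty.{1} A)) ↔
        a ∈ Ideal.span (Set.range k) := by
      constructor
      · intro ha
        have := Ideal.mem_map_of_mem (ε : MvPolynomial PEmpty.{1} A →+* A) ha
        rw [Ideal.map_span, ← Set.range_comp] at this
        have h2 : ((ε : MvPolynomial PEmpty.{1} A →+* A) ∘ fun j =>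
            (C (k j) : MvPolynomial PEmpty.{1} A)) = k := by
          funext j
          exact hεC (k j)
        rw [h2] at this
        have h3 : (ε : MvPolynomial PEmpty.{1} A →+* A) (C a) = a := hεC a
        rwa [h3] at this
      · intro ha
        have := Ideal.mem_map_of_mem (C : A →+* MvPolynomial PEmpty.{1} A) ha
        rw [Ideal.map_span, ← Set.range_comp] at this
        exact this
    rw [h1, RingHom.mem_ker, MvPolynomial.aeval_C, Ideal.Quotient.algebraMap_eq,
      Ideal.Quotient.eq_zero_iff_mem]

/-- the tautological presentation of a polynomial ring -/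
noncomputable def presMv (R : Type u) [CommRing R] (n : ℕ) :
    Algebra.Presentation R (MvPolynomial (Fin n) R) (Fin n) PEmpty.{1} where
  toGenerators := Algebra.Generators.mvPolynomial R (Fin n)
  relation := PEmpty.elim
  span_range_relation_eq_ker := by
    rw [Algebra.Generators.ker_mvPolynomial]
    have : Set.range (PEmpty.elim : PEmpty.{1} → (Algebra.Generators.mvPolynomial R (Fin n)).Ring) =
        ∅ := Set.range_eq_empty _
    rw [this, Ideal.span_empty]

theorem exists_presentation (R : Type u) [CommRing R] (n : ℕ) (E : Type u) [CommRing E]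
    [Algebra (MvPolynomial (Fin n) R) E] [Algebra R E]
    [IsScalarTower R (MvPolynomial (Fin n) R) E] [Algebra.Etale (MvPolynomial (Fin n) R) E]
    (h : E) (c : ℕ) (k' : Fin c → Localization.Away h) (hcn : c ≤ n) :
    ∃ (N m : ℕ), m ≤ N ∧ N - m = n - c ∧
      Nonempty (Algebra.Presentation R (Localization.Away h ⧸ Ideal.span (Set.range k'))
        (Fin N) (Fin m)) := by
  classical
  have hstd : Algebra.IsStandardSmoothOfRelativeDimension 0 (MvPolynomial (Fin n) R) E :=
    Algebra.Etale.iff_isStandardSmoothOfRelativeDimension_zero.mp inferInstance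
  obtain ⟨ι, σ, _, _, PE, hPE⟩ := hstd.out
  have hle : Nat.card σ ≤ Nat.card ι := Nat.card_le_card_of_injective PE.map PE.map_inj
  have hcard : Nat.card ι = Nat.card σ := by
    have : Nat.card ι - Nat.card σ = 0 := hPE
    omega
  let P1 : Algebra.Presentation R E (ι ⊕ Fin n) (σ ⊕ PEmpty.{1}) :=
    PE.toPresentation.comp (presMv R n)
  let Q1 : Algebra.Presentation E (Localization.Away h) Unit Unit :=
    Algebra.Presentation.localizationAway (Localization.Away h) h
  let P2 : Algebra.Presentation R (Localization.Away h) (Unit ⊕ (ι ⊕ Fin n))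
      (Unit ⊕ (σ ⊕ PEmpty.{1})) := Q1.comp P1
  let P3 : Algebra.Presentation R (Localization.Away h ⧸ Ideal.span (Set.range k'))
      (PEmpty.{1} ⊕ (Unit ⊕ (ι ⊕ Fin n))) (Fin c ⊕ (Unit ⊕ (σ ⊕ PEmpty.{1}))) :=
    (presQuot k').comp P2
  refine ⟨Nat.card (PEmpty.{1} ⊕ (Unit ⊕ (ι ⊕ Fin n))),
    Nat.card (Fin c ⊕ (Unit ⊕ (σ ⊕ PEmpty.{1}))), ?_, ?_,
    ⟨P3.reindex (Finite.equivFin _).symm (Finite.equivFin _).symm⟩⟩
  · simp only [Nat.card_sum, Nat.card_of_isEmpty, Nat.card_unique, Nat.card_fin]
    omega
  · simp only [Nat.card_sum, Nat.card_of_isEmpty, Nat.card_unique, Nat.card_fin]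
    omega

end Groth.Agent.H8.SL
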