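import Mathlib

/-!
# The reduction modulo `I` of `E_h / K E_h`

Let `χ : E → T₀` be a surjection onto an `R/I`-algebra, `K ⊆ ker χ` an ideal with
`g · ker χ ⊆ K + I E`, and `h` a multiple of `g`. Then `E_h/(K E_h + I E_h) ≅ (T₀)_{χ h}`.
-/

set_option autoImplicit false
set_option linter.style.haveILetI false
set_option linter.unusedSectionVars false
universe u

namespace Groth.Agent.H8.SL

theorem exists_reduction_map {R : Type u} [CommRing R] (I : Ideal R) {T₀ : Type u} [CommRing T₀]
    [Algebra (R ⧸ I) T₀] (E : Type u) [CommRing E] [Algebra R E] (χ : E →+* T₀)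
    (hχs : Function.Surjective χ)
    (hχR : ∀ r : R, χ (algebraMap R E r) = algebraMap (R ⧸ I) T₀ (Ideal.Quotient.mk I r))
    (K : Ideal E) (hK : K ≤ RingHom.ker χ) (g : E)
    (hg : ∀ a ∈ RingHom.ker χ, g * a ∈ K ⊔ I.map (algebraMap R E))
    (h : E) (hgh : g ∣ h) (t : T₀) (ht : χ h = t) :
    ∃ Φ : (Localization.Away h ⧸ K.map (algebraMap E (Localization.Away h))) →+*
        Localization.Away t,
      Function.Surjective Φ ∧
      RingHom.ker Φ = I.map (algebraMap R
        (Localization.Away h ⧸ K.map (algebraMap E (Localization.Away h)))) ∧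
      ∀ y : E, Φ (Ideal.Quotient.mk _ (algebraMap E (Localization.Away h) y)) =
        algebraMap T₀ (Localization.Away t) (χ y) := by
  classical
  let χL : E →+* Localization.Away t := (algebraMap T₀ (Localization.Away t)).comp χ
  have hunit : IsUnit (χL h) := by
    change IsUnit (algebraMap T₀ (Localization.Away t) (χ h))
    rw [ht]
    exact IsLocalization.Away.algebraMap_isUnit t
  let χh : Localization.Away h →+* Localization.Away t := IsLocalization.Away.lift h hunit
  have hχh : ∀ y : E, χh (algebraMap E (Localization.Away h) y) = χL y :=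
    fun y => IsLocalization.Away.lift_eq h hunit y
  have hkill : K.map (algebraMap E (Localization.Away h)) ≤ RingHom.ker χh := by
    rw [Ideal.map_le_iff_le_comap]
    intro y hy
    rw [Ideal.mem_comap, RingHom.mem_ker, hχh]
    change algebraMap T₀ (Localization.Away t) (χ y) = 0
    rw [(RingHom.mem_ker).mp (hK hy), map_zero]
  let Φ : (Localization.Away h ⧸ K.map (algebraMap E (Localization.Away h))) →+*
      Localization.Away t := Ideal.Quotient.lift _ χh (fun a ha => hkill ha)
  have hΦ : ∀ z : Localization.Away h, Φ (Ideal.Quotient.mk _ z) = χh z := fun z => rfl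
  have hΦy : ∀ y : E, Φ (Ideal.Quotient.mk _ (algebraMap E (Localization.Away h) y)) =
      algebraMap T₀ (Localization.Away t) (χ y) := fun y => by rw [hΦ, hχh]; rfl
  refine ⟨Φ, ?_, ?_, hΦy⟩
  · -- surjectivity
    intro z
    obtain ⟨k, a, hz⟩ := IsLocalization.Away.surj t z
    obtain ⟨e, rfl⟩ := hχs a
    have hu : IsUnit ((algebraMap T₀ (Localization.Away t) t) ^ k) :=
      (IsLocalization.Away.algebraMap_isUnit t).pow k
    have hu' : IsUnit ((algebraMap E (Localization.Away h) h) ^ k) :=
      (IsLocalization.Away.algebraMap_isUnit h).pow k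
    obtain ⟨v, hv⟩ := hu'
    refine ⟨Ideal.Quotient.mk _ (algebraMap E (Localization.Away h) e * ((v⁻¹ : _ˣ) : _)), ?_⟩
    apply hu.mul_right_cancel
    rw [hz, hΦ, map_mul, hχh]
    have h1 : χh ((v⁻¹ : (Localization.Away h)ˣ) : Localization.Away h) *
        (algebraMap T₀ (Localization.Away t) t) ^ k = 1 := by
      have h2 : (algebraMap T₀ (Localization.Away t) t) ^ k = χh (v : Localization.Away h) := by
        rw [hv, map_pow, hχh]
        change _ = (algebraMap T₀ (Localization.Away t) (χ h)) ^ k
        rw [ht]
      rw [h2, ← map_mul, Units.inv_mul, map_one]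
    rw [mul_assoc, h1, mul_one]
    rfl
  · -- kernel
    apply le_antisymm
    · intro x hx
      rw [RingHom.mem_ker] at hx
      obtain ⟨y, rfl⟩ := Ideal.Quotient.mk_surjective x
      obtain ⟨k, e, hy⟩ := IsLocalization.Away.surj h y
      rw [hΦ] at hx
      have h1 : χL e = 0 := by
        rw [← hχh, ← hy, map_mul, hx, zero_mul]
      have h1' : algebraMap T₀ (Localization.Away t) (χ e) = 0 := h1
      obtain ⟨⟨_, l, rfl⟩, hl⟩ := (IsLocalization.map_eq_zero_iff (Submonoid.powers t) _ _).mp h1'
      have h2 : h ^ l * e ∈ RingHom.ker χ := by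
        rw [RingHom.mem_ker, map_mul, map_pow, ht]
        exact hl
      have h3 := hg _ h2
      obtain ⟨w, rfl⟩ := hgh
      have h4 : (g * w) ^ (l + 1) * e ∈ K ⊔ I.map (algebraMap R E) := by
        have : (g * w) ^ (l + 1) * e = w * (g * ((g * w) ^ l * e)) := by ring
        rw [this]
        exact Ideal.mul_mem_left _ _ h3
      have h5 := Ideal.mem_map_of_mem (algebraMap E (Localization.Away (g * w))) h4
      rw [Ideal.map_sup] at h5
      have h6 := Ideal.mem_map_of_mem
        (Ideal.Quotient.mk (K.map (algebraMap E (Localization.Away (g * w))))) h5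
      rw [Ideal.map_sup, Ideal.map_quotient_self, bot_sup_eq, Ideal.map_map, Ideal.map_map] at h6
      have h7 : ((Ideal.Quotient.mk (K.map (algebraMap E (Localization.Away (g * w))))).comp
          (algebraMap E (Localization.Away (g * w)))).comp (algebraMap R E) =
          algebraMap R (Localization.Away (g * w) ⧸ K.map (algebraMap E (Localization.Away (g * w)))) := by
        ext r
        rfl
      rw [h7] at h6
      -- now divide by the unit
      have hu : IsUnit ((algebraMap E (Localization.Away (g * w)) (g * w)) ^ (k + l + 1)) :=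
        (IsLocalization.Away.algebraMap_isUnit (g * w)).pow _
      obtain ⟨v, hv⟩ := hu
      have h8 : y = ((v⁻¹ : _ˣ) : Localization.Away (g * w)) *
            algebraMap E (Localization.Away (g * w)) ((g * w) ^ (l + 1) * e) := by
        have : algebraMap E (Localization.Away (g * w)) ((g * w) ^ (l + 1) * e) =
            (v : Localization.Away (g * w)) * y := by
          have hy' : algebraMap E (Localization.Away (g * w)) e =
              y * algebraMap E (Localization.Away (g * w)) (g * w) ^ k := by
            rw [← hy]
          rw [hv, map_mul _ (((g * w)) ^ (l + 1)) e, hy', map_pow]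
          ring
        rw [this, ← mul_assoc, Units.inv_mul, one_mul]
      rw [h8, map_mul]
      exact Ideal.mul_mem_left _ _ h6
    · rw [Ideal.map_le_iff_le_comap]
      intro r hr
      rw [Ideal.mem_comap, RingHom.mem_ker]
      have h1 : algebraMap R (Localization.Away h ⧸ K.map (algebraMap E (Localization.Away h))) r =
          Ideal.Quotient.mk _ (algebraMap E (Localization.Away h) (algebraMap R E r)) := rfl
      rw [h1, hΦy, hχR, Ideal.Quotient.eq_zero_iff_mem.mpr hr, map_zero, map_zero]

end Groth.Agent.H8.SL
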