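import Mathlib
import Groth.Agent.H8.SL.Basic
import Groth.Agent.H8.SL.LocalCrit
import Groth.Agent.H8.SL.T0Local
import Groth.Agent.H8.SL.Gens
import Groth.Agent.H8.SL.Pres
import Groth.Agent.H8.SL.Reduction

/-!
# The local step of the lifting construction

Given the étale neighbourhood `E` with the surjection `χ : E → T₀` and the projective module `P'`
with `φ : P' → E`, `K = im φ`, we show that every prime `q₀` of `T₀` has a principal neighbourhood
`D(χ x)` such that `(E/K)_x` is syntomic over `R`.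
-/

set_option autoImplicit false
set_option linter.style.haveILetI false
set_option linter.unusedSectionVars false
universe u

namespace Groth.Agent.H8.SL

open Groth.Agent.Lib.Helper82.SyntLocal

/-- transfer: `(E/K)_{h ũ}` is the localization of `E_h/K E_h` at `u` if `u` and `ũ` are
associated there -/
theorem isSyntomic_away_quotient_of_away {R : Type u} [CommRing R] {E : Type u} [CommRing E]
    [Algebra R E] (K : Ideal E) (h : E)
    (u : Localization.Away h ⧸ K.map (algebraMap E (Localization.Away h)))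
    (hu : Synt.IsSyntomic R (Localization.Away u)) :
    ∃ x : E, (∃ w : E, x = h * w ∧
      Associated (Ideal.Quotient.mk (K.map (algebraMap E (Localization.Away h)))
        (algebraMap E (Localization.Away h) w)) u) ∧
      Synt.IsSyntomic R (Localization.Away (Ideal.Quotient.mk K x)) := by
  classical
  let S := Localization.Away h ⧸ K.map (algebraMap E (Localization.Away h))
  haveI hloc : IsLocalization.Away (Ideal.Quotient.mk K h) S := by
    have : Algebra.algebraMapSubmonoid (E ⧸ K) (Submonoid.powers h) =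
        Submonoid.powers (Ideal.Quotient.mk K h) := by
      simp [Algebra.algebraMapSubmonoid, Submonoid.map_powers]
    rw [IsLocalization.Away, ← this]
    infer_instance
  haveI : IsScalarTower R (E ⧸ K) S := IsScalarTower.of_algebraMap_eq fun _ => rfl
  -- write `u = ū / h^j`
  obtain ⟨j, ubar, hub⟩ := IsLocalization.Away.surj (Ideal.Quotient.mk K h) u
  obtain ⟨w, rfl⟩ := Ideal.Quotient.mk_surjective ubar
  have hunit : IsUnit ((algebraMap (E ⧸ K) S (Ideal.Quotient.mk K h)) ^ j) :=
    (IsLocalization.Away.algebraMap_isUnit _).pow j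
  have hassoc : Associated (algebraMap (E ⧸ K) S (Ideal.Quotient.mk K w)) u := by
    obtain ⟨v, hv⟩ := hunit
    refine Associated.symm ⟨v, ?_⟩
    rw [hv, hub]
  refine ⟨h * w, ⟨w, rfl, hassoc⟩, ?_⟩
  haveI : IsScalarTower (E ⧸ K) S (Localization.Away u) := inferInstance
  haveI : IsScalarTower R (E ⧸ K) (Localization.Away u) :=
    IsScalarTower.of_algebraMap_eq fun r => by
      rw [IsScalarTower.algebraMap_apply R S (Localization.Away u),
        IsScalarTower.algebraMap_apply R (E ⧸ K) S]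
      rfl
  haveI : IsLocalization.Away (Ideal.Quotient.mk K h * Ideal.Quotient.mk K w)
      (Localization.Away u) :=
    IsLocalization.Away.mul_of_associated (S := S) _ _ u hassoc
  have e := awayEquivOfIsLocalization (R := R) (Ideal.Quotient.mk K h * Ideal.Quotient.mk K w)
    (Localization.Away u)
  rw [map_mul]
  exact isSyntomic_of_algEquiv R e.symm hu

/-- abstract core of the local step -/
theorem exists_away_isSyntomic_of_reduction {R : Type u} [CommRing R] (I : Ideal R)
    (S : Type u) [CommRing S] [Algebra R S] {N m : ℕ}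
    (Pres : Algebra.Presentation R S (Fin N) (Fin m)) (hmN : m ≤ N)
    (Y : Type u) [CommRing Y] [Algebra (R ⧸ I) Y] (Φ : S →+* Y) (hΦs : Function.Surjective Φ)
    (hΦk : RingHom.ker Φ = I.map (algebraMap R S))
    (hΦR : ∀ r' : R, Φ (algebraMap R S r') = algebraMap (R ⧸ I) Y (Ideal.Quotient.mk I r'))
    {n' c' : ℕ} (G : Fin c' → MvPolynomial (Fin n') (R ⧸ I))
    (hG : Synt.IsRelGCI (R ⧸ I) n' c' G) (hdim : n' - c' = N - m)
    (e₁ : Y ≃ₐ[R ⧸ I] Synt.RelGCIRing (R ⧸ I) n' c' G) :
    ∃ u : S, Φ u = 1 ∧ Synt.IsSyntomic R (Localization.Away u) := by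
  have hker : RingHom.ker (Ideal.Quotient.mk (I.map (algebraMap R S))) = RingHom.ker Φ := by
    rw [Ideal.mk_ker, hΦk]
  let e₀ : (S ⧸ I.map (algebraMap R S)) ≃+* Y :=
    equivOfKerEq (Ideal.Quotient.mk (I.map (algebraMap R S))) Φ Ideal.Quotient.mk_surjective hΦs
      hker
  have he₀ : ∀ s : S, e₀ (Ideal.Quotient.mk _ s) = Φ s := fun s =>
    equivOfKerEq_apply _ _ _ _ _ s
  let e : (S ⧸ I.map (algebraMap R S)) ≃+* Synt.RelGCIRing (R ⧸ I) n' c' G :=
    e₀.trans e₁.toRingEquiv
  have he : ∀ r' : R, e (Ideal.Quotient.mk _ (algebraMap R S r')) =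
      algebraMap (R ⧸ I) _ (Ideal.Quotient.mk I r') := by
    intro r'
    change e₁ (e₀ (Ideal.Quotient.mk _ (algebraMap R S r'))) = _
    rw [he₀, hΦR, AlgEquiv.commutes]
  obtain ⟨u, hu1, husyn⟩ := exists_away_isSyntomic R I S Pres hmN G hG hdim e he
  refine ⟨u, ?_, husyn⟩
  have : u - 1 ∈ RingHom.ker Φ := by rw [hΦk]; exact hu1
  rw [RingHom.mem_ker, map_sub, map_one, sub_eq_zero] at this
  exact this

section Main

variable {R : Type u} [CommRing R] (I : Ideal R) (n : ℕ)

local notation "B" => MvPolynomial (Fin n) R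
local notation "B₀" => MvPolynomial (Fin n) (R ⧸ I)

theorem exists_local_step (J₀ : Ideal B₀) (hJ₀ : J₀.FG)
    (hsyn : Synt.IsSyntomic (R ⧸ I) (B₀ ⧸ J₀))
    (E : Type u) [CommRing E] [Algebra B E] [Algebra R E] [IsScalarTower R B E]
    [Algebra.Etale B E]
    (χ : E →+* (B₀ ⧸ J₀)) (hχs : Function.Surjective χ)
    (hχB : ∀ b : B, χ (algebraMap B E b) =
      Ideal.Quotient.mk J₀ (MvPolynomial.map (Ideal.Quotient.mk I) b))
    (P' : Type u) [AddCommGroup P'] [Module E P'] [Module.Finite E P'] [Module.Projective E P']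
    (hrank : ∀ q₀ : PrimeSpectrum (B₀ ⧸ J₀),
      Module.rankAtStalk P' (q₀.comap χ) = Module.rankAtStalk (R := B₀ ⧸ J₀) J₀.Cotangent q₀)
    (φ : P' →ₗ[E] E) (K : Ideal E) (hK : K = LinearMap.range φ) (hKχ : K ≤ RingHom.ker χ)
    (g : E) (hg1 : χ g = 1)
    (hg : ∀ a ∈ RingHom.ker χ, g * a ∈ K ⊔ I.map (algebraMap R E))
    (q₀ : PrimeSpectrum (B₀ ⧸ J₀)) :
    ∃ x : E, χ x ∉ q₀.asIdeal ∧
      Synt.IsSyntomic R (Localization.Away (Ideal.Quotient.mk K x)) := by
  classical
  have hχR : ∀ r : R, χ (algebraMap R E r) =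
      algebraMap (R ⧸ I) (B₀ ⧸ J₀) (Ideal.Quotient.mk I r) := by
    intro r
    rw [IsScalarTower.algebraMap_apply R B E, hχB, MvPolynomial.algebraMap_eq,
      MvPolynomial.map_C]
    rfl
  -- the local model of `T₀` at `q₀`
  obtain ⟨c, tstar, hcn, htq, hrk, hmodel⟩ :=
    exists_local_model (R ⧸ I) n J₀ hJ₀ hsyn q₀.asIdeal
  -- `P'` is free of rank `c` near `q`
  let q : PrimeSpectrum E := q₀.comap χ
  have hrq : Module.rankAtStalk P' q = c := by
    rw [hrank q₀]
    exact hrk q₀ htq
  haveI : Module.FinitePresentation E P' := Module.finitePresentation_of_projective E P'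
  haveI : Module.Free (Localization.AtPrime q.asIdeal)
      (LocalizedModule q.asIdeal.primeCompl P') := Module.free_of_flat_of_isLocalRing
  obtain ⟨r, hrS, hfree, hfr⟩ := Module.FinitePresentation.exists_free_localizedModule_powers
    q.asIdeal.primeCompl (LocalizedModule.mkLinearMap q.asIdeal.primeCompl P')
    (Localization.AtPrime q.asIdeal)
  have hrq' : χ r ∉ q₀.asIdeal := hrS
  have hfr' : Module.finrank (Localization.Away r) (LocalizedModule (Submonoid.powers r) P') = c := by
    rw [← hrq]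
    exact hfr
  haveI : Nontrivial (Localization.Away r) :=
    (show Localization.Away r →+* Localization.AtPrime q.asIdeal from
      IsLocalization.map (M := .powers r) (T := q.asIdeal.primeCompl) _
        (RingHom.id _) (Submonoid.powers_le.mpr hrS)).domain_nontrivial
  -- choose `h`
  obtain ⟨h₂, hh₂⟩ := hχs tstar
  obtain ⟨h, hh⟩ : ∃ h : E, h = h₂ * (g * r) := ⟨_, rfl⟩
  have hχh : χ h = tstar * χ r := by rw [hh, map_mul, map_mul, hh₂, hg1, one_mul]
  have hχhq : χ h ∉ q₀.asIdeal := by
    rw [hχh]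
    intro hmem
    rcases q₀.isPrime.mem_or_mem hmem with h1 | h1
    · exact htq h1
    · exact hrq' h1
  have hrunit : IsUnit (algebraMap E (Localization.Away h) r) :=
    IsLocalization.Away.isUnit_of_dvd (x := h) ⟨h₂ * g, by rw [hh]; ring⟩
  obtain ⟨k', hk'⟩ := exists_generators_map_range φ r c hfr' (Localization.Away h) hrunit
  obtain ⟨N, m, hmN, hNm, ⟨Pres⟩⟩ := exists_presentation R n E h c k' hcn
  have hk'' : Ideal.span (Set.range k') = K.map (algebraMap E (Localization.Away h)) := by
    rw [hk', hK]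
  let S := Localization.Away h ⧸ K.map (algebraMap E (Localization.Away h))
  let Pres' : Algebra.Presentation R S (Fin N) (Fin m) :=
    Pres.ofAlgEquiv (Ideal.quotientEquivAlgOfEq R hk'')
  have hdvd : g ∣ h := ⟨h₂ * r, by rw [hh]; ring⟩
  have hred1 := @exists_reduction_map R _ I (B₀ ⧸ J₀) _ _ E _ _ χ hχs
  have hred2 := hred1 hχR
  have hred3 := hred2 K hKχ g
  have hred4 := hred3 hg
  have hred := hred4 h hdvd (tstar * χ r) hχh
  refine Exists.elim hred (fun Φ hΦ => ?_)
  have hΦs := hΦ.1
  have hΦk := hΦ.2.1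
  have hΦy := hΦ.2.2
  obtain ⟨n', c', G, hG, hc'n', hdim', ⟨e₁⟩⟩ := hmodel (χ r)
  have hΦR : ∀ r' : R, Φ (algebraMap R S r') =
      algebraMap (R ⧸ I) (Localization.Away (tstar * χ r)) (Ideal.Quotient.mk I r') := by
    intro r'
    have h1 : algebraMap R S r' = Ideal.Quotient.mk _
        (algebraMap E (Localization.Away h) (algebraMap R E r')) := rfl
    rw [h1, hΦy, hχR, ← IsScalarTower.algebraMap_apply (R ⧸ I) (B₀ ⧸ J₀)
      (Localization.Away (tstar * χ r))]
  have hcore := @exists_away_isSyntomic_of_reduction R _ I S _ _ N m Pres' hmN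
    (Localization.Away (tstar * χ r)) _ _ Φ hΦs hΦk hΦR n' c' G hG (by rw [hdim', hNm]) e₁
  refine Exists.elim hcore (fun u hu => ?_)
  have hΦu := hu.1
  have husyn := hu.2
  obtain ⟨x, ⟨w, hxw, hassoc⟩, hxsyn⟩ := isSyntomic_away_quotient_of_away K h u husyn
  refine ⟨x, ?_, hxsyn⟩
  -- `χ w` is a unit of `(T₀)_{χ h}`
  have hwunit : IsUnit (Φ (Ideal.Quotient.mk _ (algebraMap E (Localization.Away h) w))) := by
    have := hassoc.map Φ
    rw [hΦu] at this
    exact (associated_one_iff_isUnit).mp this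
  rw [hΦy] at hwunit
  obtain ⟨k, hk⟩ := (IsLocalization.Away.algebraMap_isUnit_iff (x := tstar * χ r)).mp hwunit
  rw [hxw, map_mul]
  intro hmem
  rcases q₀.isPrime.mem_or_mem hmem with h1 | h1
  · exact hχhq h1
  · have h2 : (tstar * χ r) ^ k ∈ q₀.asIdeal := by
      obtain ⟨d, hd⟩ := hk
      rw [hd]
      exact Ideal.mul_mem_right _ _ h1
    have h3 := q₀.isPrime.mem_of_pow_mem _ h2
    rw [← hχh] at h3
    exact hχhq h3

end Main

end Groth.Agent.H8.SL
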