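import Mathlib
import Groth.Agent.H8.SL.Basic
import Groth.Agent.H8.SL.Construct
import Groth.Agent.H8.SL.LocalStep
import Groth.Agent.H8.SL.Reduction
import Groth.Agent.S9146

/-!
# Lifting syntomic algebras along `R → R/I` (Stacks 07M8, syntomic case)
-/

set_option autoImplicit false
set_option linter.style.haveILetI false
set_option linter.unusedSectionVars false
universe u

namespace Groth.Agent.H8.SL

open Groth.Agent.Lib.Helper82.SyntLocal

/-- `E_{u₀}/K E_{u₀}` is the localization of `E/K` away from `u₀` -/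
theorem isLocalization_away_quotient {E : Type u} [CommRing E] (K : Ideal E) (h : E) :
    IsLocalization.Away (Ideal.Quotient.mk K h)
      (Localization.Away h ⧸ K.map (algebraMap E (Localization.Away h))) := by
  have : Algebra.algebraMapSubmonoid (E ⧸ K) (Submonoid.powers h) =
      Submonoid.powers (Ideal.Quotient.mk K h) := by
    simp [Algebra.algebraMapSubmonoid, Submonoid.map_powers]
  rw [IsLocalization.Away, ← this]
  infer_instance

/-- if `(E/K)_x` is syntomic, then so is `(E_{u₀}/K E_{u₀})_x` -/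
theorem isSyntomic_away_quotient_away {R : Type u} [CommRing R] {E : Type u} [CommRing E]
    [Algebra R E] (K : Ideal E) (u₀ x : E)
    (hx : Synt.IsSyntomic R (Localization.Away (Ideal.Quotient.mk K x))) :
    Synt.IsSyntomic R (Localization.Away
      (Ideal.Quotient.mk (K.map (algebraMap E (Localization.Away u₀)))
        (algebraMap E (Localization.Away u₀) x))) := by
  classical
  let S₀ := Localization.Away u₀ ⧸ K.map (algebraMap E (Localization.Away u₀))
  haveI hloc : IsLocalization.Away (Ideal.Quotient.mk K u₀) S₀ := isLocalization_away_quotient K u₀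
  haveI : IsScalarTower R (E ⧸ K) S₀ := IsScalarTower.of_algebraMap_eq fun _ => rfl
  let L := Localization.Away (algebraMap (E ⧸ K) S₀ (Ideal.Quotient.mk K x))
  change Synt.IsSyntomic R L
  haveI : IsScalarTower (E ⧸ K) S₀ L := inferInstance
  haveI : IsScalarTower R (E ⧸ K) L :=
    IsScalarTower.of_algebraMap_eq (R := R) (S := E ⧸ K) (A := L) fun r => by
      rw [IsScalarTower.algebraMap_apply R S₀ L, IsScalarTower.algebraMap_apply R (E ⧸ K) S₀]
      rfl
  haveI hL : IsLocalization.Away (Ideal.Quotient.mk K u₀ * Ideal.Quotient.mk K x) L :=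
    IsLocalization.Away.mul' S₀ L _ _
  let Ax := Localization.Away (Ideal.Quotient.mk K x)
  let M := Localization.Away (algebraMap (E ⧸ K) Ax (Ideal.Quotient.mk K u₀))
  have hM : Synt.IsSyntomic R M := isSyntomic_away hx _
  haveI : IsScalarTower (E ⧸ K) Ax M := inferInstance
  haveI : IsScalarTower R (E ⧸ K) M :=
    IsScalarTower.of_algebraMap_eq (R := R) (S := E ⧸ K) (A := M) fun r => by
      rw [IsScalarTower.algebraMap_apply R Ax M, IsScalarTower.algebraMap_apply R (E ⧸ K) Ax]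
      rfl
  haveI hM' : IsLocalization.Away (Ideal.Quotient.mk K u₀ * Ideal.Quotient.mk K x) M :=
    IsLocalization.Away.mul Ax M _ _
  have e1 := awayEquivOfIsLocalization (R := R)
    (Ideal.Quotient.mk K u₀ * Ideal.Quotient.mk K x) L
  have e2 := awayEquivOfIsLocalization (R := R)
    (Ideal.Quotient.mk K u₀ * Ideal.Quotient.mk K x) M
  exact isSyntomic_of_algEquiv R (e2.symm.trans e1) hM

/-- global assembly -/
theorem exists_lift_of_local_steps {R : Type u} [CommRing R] (I : Ideal R) {T₀ : Type u}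
    [CommRing T₀] [Algebra (R ⧸ I) T₀] (E : Type u) [CommRing E] [Algebra R E] (χ : E →+* T₀)
    (hχs : Function.Surjective χ)
    (hχR : ∀ r : R, χ (algebraMap R E r) = algebraMap (R ⧸ I) T₀ (Ideal.Quotient.mk I r))
    (K : Ideal E) (hKχ : K ≤ RingHom.ker χ) (g : E) (hg1 : χ g = 1)
    (hg : ∀ a ∈ RingHom.ker χ, g * a ∈ K ⊔ I.map (algebraMap R E))
    (hloc : ∀ q₀ : PrimeSpectrum T₀, ∃ x : E, χ x ∉ q₀.asIdeal ∧
      Synt.IsSyntomic R (Localization.Away (Ideal.Quotient.mk K x))) :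
    ∃ (A : Type u) (_ : CommRing A) (_ : Algebra R A), Synt.IsSyntomic R A ∧
      ∃ ψ : A →+* T₀, Function.Surjective ψ ∧ RingHom.ker ψ = I.map (algebraMap R A) ∧
        ∀ r : R, ψ (algebraMap R A r) = algebraMap (R ⧸ I) T₀ (Ideal.Quotient.mk I r) := by
  classical
  let X : Set E := {x : E | Synt.IsSyntomic R (Localization.Away (Ideal.Quotient.mk K x))}
  have htop : (Ideal.span X).map χ = ⊤ := by
    by_contra hne
    obtain ⟨m, hm, hle⟩ := Ideal.exists_le_maximal _ hne
    obtain ⟨x, hx1, hx2⟩ := hloc ⟨m, hm.isPrime⟩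
    exact hx1 (hle (Ideal.mem_map_of_mem χ (Ideal.subset_span hx2)))
  have h1 : (1 : T₀) ∈ (Ideal.span X).map χ := by rw [htop]; trivial
  obtain ⟨u₁, hu₁, hχu₁⟩ := (Ideal.mem_map_iff_of_surjective χ hχs).mp h1
  obtain ⟨f, t, htX, -, hsum⟩ := Submodule.mem_span_iff_exists_finset_subset.mp hu₁
  obtain ⟨u₀, hu₀⟩ : ∃ u₀ : E, u₀ = g * u₁ := ⟨_, rfl⟩
  have hχu₀ : χ u₀ = 1 := by rw [hu₀, map_mul, hg1, hχu₁, one_mul]
  let S₀ := Localization.Away u₀ ⧸ K.map (algebraMap E (Localization.Away u₀))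
  refine ⟨S₀, inferInstance, inferInstance, ?_, ?_⟩
  · -- syntomic
    refine Groth.Agent.S9146.result R S₀
      (t.image fun x => Ideal.Quotient.mk (K.map (algebraMap E (Localization.Away u₀)))
        (algebraMap E (Localization.Away u₀) x)) ?_ ?_
    · have hunit : IsUnit (Ideal.Quotient.mk (K.map (algebraMap E (Localization.Away u₀)))
          (algebraMap E (Localization.Away u₀) u₁)) :=
        (IsLocalization.Away.isUnit_of_dvd (x := u₀) ⟨g, by rw [hu₀]; ring⟩).map _
      refine Ideal.eq_top_of_isUnit_mem _ ?_ hunit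
      rw [← hsum, map_sum, map_sum]
      refine Ideal.sum_mem _ fun a ha => ?_
      rw [smul_eq_mul, map_mul, map_mul]
      refine Ideal.mul_mem_left _ _ (Ideal.subset_span ?_)
      rw [Finset.coe_image]
      exact Set.mem_image_of_mem _ ha
    · intro s hs
      obtain ⟨x, hx, rfl⟩ := Finset.mem_image.mp hs
      exact isSyntomic_away_quotient_away K u₀ x (htX hx)
  · have hdvd : g ∣ u₀ := ⟨u₁, hu₀⟩
    have hred1 := @exists_reduction_map R _ I T₀ _ _ E _ _ χ hχs
    have hred2 := hred1 hχR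
    have hred3 := hred2 K hKχ g
    have hred4 := hred3 hg
    have hred := hred4 u₀ hdvd 1 hχu₀
    refine Exists.elim hred (fun Φ hΦ => ?_)
    have hΦs := hΦ.1
    have hΦk := hΦ.2.1
    have hΦy := hΦ.2.2
    let e : T₀ ≃ₐ[T₀] Localization.Away (1 : T₀) := IsLocalization.atOne T₀ _
    refine ⟨(e.symm : Localization.Away (1 : T₀) →+* T₀).comp Φ, ?_, ?_, ?_⟩
    · exact e.symm.surjective.comp hΦs
    · rw [← hΦk]
      ext a
      simp only [RingHom.mem_ker, RingHom.comp_apply]
      constructor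
      · intro h
        have := congrArg e h
        simpa using this
      · intro h
        rw [h, map_zero]
    · intro r
      have h2 : algebraMap R S₀ r = Ideal.Quotient.mk _
          (algebraMap E (Localization.Away u₀) (algebraMap R E r)) := rfl
      rw [RingHom.comp_apply, h2, hΦy, hχR]
      change e.symm (algebraMap T₀ _ _) = _
      rw [AlgEquiv.commutes]
      rfl

section Final

variable (R : Type u) [CommRing R] (I : Ideal R) (n : ℕ)

local notation "B" => MvPolynomial (Fin n) R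
local notation "B₀" => MvPolynomial (Fin n) (R ⧸ I)

/-- lifting a syntomic quotient of a polynomial ring over `R/I` -/
theorem exists_lift_quotient (J₀ : Ideal B₀) (hJ₀ : J₀.FG)
    (hsyn : Synt.IsSyntomic (R ⧸ I) (B₀ ⧸ J₀)) :
    ∃ (A : Type u) (_ : CommRing A) (_ : Algebra R A), Synt.IsSyntomic R A ∧
      ∃ ψ : A →+* (B₀ ⧸ J₀), Function.Surjective ψ ∧
        RingHom.ker ψ = I.map (algebraMap R A) ∧
        ∀ r : R, ψ (algebraMap R A r) = algebraMap (R ⧸ I) (B₀ ⧸ J₀) (Ideal.Quotient.mk I r) := by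
  classical
  obtain ⟨E, _, _, hEt, χ, hχs, hχB, P', _, _, hP'fin, hP'proj, hrank, φ, hφK, g, hg1, hg⟩ :=
    exists_construction R I n J₀ hJ₀ hsyn
  letI : Algebra R E := ((algebraMap B E).comp MvPolynomial.C).toAlgebra
  haveI : IsScalarTower R B E := IsScalarTower.of_algebraMap_eq fun _ => rfl
  have hχR : ∀ r : R, χ (algebraMap R E r) =
      algebraMap (R ⧸ I) (B₀ ⧸ J₀) (Ideal.Quotient.mk I r) := by
    intro r
    rw [IsScalarTower.algebraMap_apply R B E, hχB, MvPolynomial.algebraMap_eq,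
      MvPolynomial.map_C]
    rfl
  obtain ⟨K, hK⟩ : ∃ K : Ideal E, K = LinearMap.range φ := ⟨_, rfl⟩
  have hKχ : K ≤ RingHom.ker χ := by rw [hK]; exact hφK
  have hg' : ∀ a ∈ RingHom.ker χ, g * a ∈ K ⊔ I.map (algebraMap R E) := by
    rw [hK]; exact hg
  have hloc : ∀ q₀ : PrimeSpectrum (B₀ ⧸ J₀), ∃ x : E, χ x ∉ q₀.asIdeal ∧
      Synt.IsSyntomic R (Localization.Away (Ideal.Quotient.mk K x)) := fun q₀ =>
    exists_local_step I n J₀ hJ₀ hsyn E χ hχs hχB P' hrank φ K hK hKχ g hg1 hg' q₀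
  exact @exists_lift_of_local_steps R _ I (B₀ ⧸ J₀) _ _ E _ _ χ hχs hχR K hKχ g hg1 hg' hloc

end Final

/-- from a surjection with kernel `I A` to an isomorphism `A/IA ≅ T` of `R/I`-algebras -/
theorem nonempty_algEquiv_of_surjective {R : Type u} [CommRing R] (I : Ideal R) {A T : Type u}
    [CommRing A] [Algebra R A] [CommRing T] [Algebra (R ⧸ I) T] (ψ : A →+* T)
    (hψs : Function.Surjective ψ) (hψk : RingHom.ker ψ = I.map (algebraMap R A))
    (hψR : ∀ r : R, ψ (algebraMap R A r) = algebraMap (R ⧸ I) T (Ideal.Quotient.mk I r)) :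
    Nonempty ((A ⧸ I.map (algebraMap R A)) ≃ₐ[R ⧸ I] T) := by
  have hker : RingHom.ker (Ideal.Quotient.mk (I.map (algebraMap R A))) = RingHom.ker ψ := by
    rw [Ideal.mk_ker, hψk]
  let e : (A ⧸ I.map (algebraMap R A)) ≃+* T :=
    equivOfKerEq (Ideal.Quotient.mk (I.map (algebraMap R A))) ψ Ideal.Quotient.mk_surjective hψs
      hker
  have he : ∀ a : A, e (Ideal.Quotient.mk _ a) = ψ a := fun a =>
    equivOfKerEq_apply _ _ _ _ _ a
  refine ⟨AlgEquiv.ofRingEquiv (f := e) ?_⟩
  intro x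
  obtain ⟨r, rfl⟩ := Ideal.Quotient.mk_surjective x
  have h1 : algebraMap (R ⧸ I) (A ⧸ I.map (algebraMap R A)) (Ideal.Quotient.mk I r) =
      Ideal.Quotient.mk _ (algebraMap R A r) := rfl
  rw [h1, he, hψR]

/-- **Stacks 07M8 (syntomic case)**: syntomic algebras lift along `R → R/I`. -/
theorem exists_syntomic_lift {R A₀ : Type u} [CommRing R] (I : Ideal R) [CommRing A₀]
    [Algebra (R ⧸ I) A₀] (h : Synt.IsSyntomic (R ⧸ I) A₀) :
    ∃ (A : Type u) (_ : CommRing A) (_ : Algebra R A), Synt.IsSyntomic R A ∧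
      Nonempty ((A ⧸ I.map (algebraMap R A)) ≃ₐ[R ⧸ I] A₀) := by
  classical
  haveI : Algebra.FinitePresentation (R ⧸ I) A₀ := h.2.1
  obtain ⟨n, f, hf, hfg⟩ := Algebra.FinitePresentation.out (R := R ⧸ I) (A := A₀)
  let e₀ : (MvPolynomial (Fin n) (R ⧸ I) ⧸ RingHom.ker f.toRingHom) ≃ₐ[R ⧸ I] A₀ :=
    Ideal.quotientKerAlgEquivOfSurjective hf
  have hsyn' : Synt.IsSyntomic (R ⧸ I)
      (MvPolynomial (Fin n) (R ⧸ I) ⧸ RingHom.ker f.toRingHom) :=
    isSyntomic_of_algEquiv (R ⧸ I) e₀.symm h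
  obtain ⟨A, _, _, hA, ψ, hψs, hψk, hψR⟩ :=
    exists_lift_quotient R I n (RingHom.ker f.toRingHom) hfg hsyn'
  obtain ⟨e₁⟩ := @nonempty_algEquiv_of_surjective R _ I A
    (MvPolynomial (Fin n) (R ⧸ I) ⧸ RingHom.ker f.toRingHom) _ _ _ _ ψ hψs hψk hψR
  exact ⟨A, inferInstance, inferInstance, hA, ⟨e₁.trans e₀⟩⟩

end Groth.Agent.H8.SL
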