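import Mathlib
import Groth.Agent.H8.SL.Main
import Groth.Agent.H46.SmoothSynt

/-!
# Lifting smooth algebras along `R → R/I` (Stacks 07M8, smooth case)
-/

set_option autoImplicit false
set_option linter.style.haveILetI false
set_option linter.unusedSectionVars false
universe u

namespace Groth.Agent.H8.SL

open TensorProduct

/-- the fibres of `A` over primes containing `I` are those of `A/IA` -/
theorem formallySmooth_fiber_of_quotient {R : Type u} [CommRing R] (I : Ideal R) {A : Type u}
    [CommRing A] [Algebra R A]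
    [Algebra.FormallySmooth (R ⧸ I) (A ⧸ I.map (algebraMap R A))]
    (p : Ideal R) [p.IsPrime] (hIp : I ≤ p) :
    Algebra.FormallySmooth p.ResidueField (p.Fiber A) := by
  have hker : ∀ a ∈ I, algebraMap R p.ResidueField a = 0 := by
    intro a ha
    have := hIp ha
    rwa [← Ideal.ker_algebraMap_residueField p, RingHom.mem_ker] at this
  letI : Algebra (R ⧸ I) p.ResidueField :=
    (Ideal.Quotient.lift I (algebraMap R p.ResidueField) hker).toAlgebra
  haveI : IsScalarTower R (R ⧸ I) p.ResidueField := IsScalarTower.of_algebraMap_eq fun _ => rfl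
  have e1 : (A ⧸ I.map (algebraMap R A)) ≃ₐ[R ⧸ I] (R ⧸ I) ⊗[R] A :=
    Algebra.TensorProduct.quotIdealMapEquivQuotTensor A I
  haveI : Algebra.FormallySmooth (R ⧸ I) ((R ⧸ I) ⊗[R] A) := Algebra.FormallySmooth.of_equiv e1
  have e2 : p.ResidueField ⊗[R ⧸ I] ((R ⧸ I) ⊗[R] A) ≃ₐ[p.ResidueField] p.ResidueField ⊗[R] A :=
    Algebra.TensorProduct.cancelBaseChange R (R ⧸ I) p.ResidueField p.ResidueField A
  haveI : Algebra.FormallySmooth p.ResidueField
      (p.ResidueField ⊗[R ⧸ I] ((R ⧸ I) ⊗[R] A)) := inferInstance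
  exact @Algebra.FormallySmooth.of_equiv p.ResidueField _
    (p.ResidueField ⊗[R ⧸ I] ((R ⧸ I) ⊗[R] A)) (p.Fiber A) _ _ _ _ inferInstance e2

/-- inverting an element `c ≡ 1 mod I A` does not change `A / I A` -/
theorem nonempty_algEquiv_away_quotient {R : Type u} [CommRing R] (I : Ideal R) {A : Type u}
    [CommRing A] [Algebra R A] (c : A) (hc : c - 1 ∈ I.map (algebraMap R A)) :
    Nonempty ((Localization.Away c ⧸ I.map (algebraMap R (Localization.Away c))) ≃ₐ[R ⧸ I]
      (A ⧸ I.map (algebraMap R A))) := by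
  have hc1 : Ideal.Quotient.mk (I.map (algebraMap R A)) c = 1 := by
    rw [← sub_eq_zero, ← map_one (Ideal.Quotient.mk (I.map (algebraMap R A))), ← map_sub]
    exact Ideal.Quotient.eq_zero_iff_mem.mpr hc
  have hunit : IsUnit (Ideal.Quotient.mk (I.map (algebraMap R A)) c) := by
    rw [hc1]; exact isUnit_one
  let ψ : Localization.Away c →+* (A ⧸ I.map (algebraMap R A)) :=
    IsLocalization.Away.lift c hunit
  have hψ : ∀ a : A, ψ (algebraMap A (Localization.Away c) a) = Ideal.Quotient.mk _ a :=
    fun a => IsLocalization.Away.lift_eq c hunit a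
  refine nonempty_algEquiv_of_surjective I ψ ?_ ?_ ?_
  · intro y
    obtain ⟨a, rfl⟩ := Ideal.Quotient.mk_surjective y
    exact ⟨_, hψ a⟩
  · apply le_antisymm
    · intro z hz
      rw [RingHom.mem_ker] at hz
      obtain ⟨k, a, hza⟩ := IsLocalization.Away.surj c z
      have h1 : Ideal.Quotient.mk (I.map (algebraMap R A)) a = 0 := by
        rw [← hψ, ← hza, map_mul, hz, zero_mul]
      have h2 : a ∈ I.map (algebraMap R A) := Ideal.Quotient.eq_zero_iff_mem.mp h1
      have h3 : algebraMap A (Localization.Away c) a ∈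
          I.map (algebraMap R (Localization.Away c)) := by
        have := Ideal.mem_map_of_mem (algebraMap A (Localization.Away c)) h2
        rwa [Ideal.map_map, ← IsScalarTower.algebraMap_eq] at this
      obtain ⟨v, hv⟩ := (IsLocalization.Away.algebraMap_isUnit (S := Localization.Away c) c).pow k
      have h4 : z = ((v⁻¹ : _ˣ) : Localization.Away c) *
          algebraMap A (Localization.Away c) a := by
        rw [← hza, ← hv, mul_comm z, ← mul_assoc, Units.inv_mul, one_mul]
      rw [h4]
      exact Ideal.mul_mem_left _ _ h3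
    · rw [Ideal.map_le_iff_le_comap]
      intro r hr
      rw [Ideal.mem_comap, RingHom.mem_ker, IsScalarTower.algebraMap_apply R A (Localization.Away c),
        hψ, Ideal.Quotient.eq_zero_iff_mem]
      exact Ideal.mem_map_of_mem _ hr
  · intro r
    rw [IsScalarTower.algebraMap_apply R A (Localization.Away c), hψ]
    rfl

/-- **Stacks 07M8 (smooth case)**: smooth algebras lift along `R → R/I`. -/
theorem exists_smooth_lift {R A₀ : Type u} [CommRing R] (I : Ideal R) [CommRing A₀]
    [Algebra (R ⧸ I) A₀] [Algebra.Smooth (R ⧸ I) A₀] :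
    ∃ (A : Type u) (_ : CommRing A) (_ : Algebra R A), Algebra.Smooth R A ∧
      Nonempty ((A ⧸ I.map (algebraMap R A)) ≃ₐ[R ⧸ I] A₀) := by
  classical
  have hsyn : Synt.IsSyntomic (R ⧸ I) A₀ :=
    Groth.Agent.H46.SmoothSynt.isSyntomic_of_smooth (R ⧸ I) A₀
  obtain ⟨A, _, _, hA, ⟨e⟩⟩ := exists_syntomic_lift I hsyn
  haveI : Module.Flat R A := hA.1
  haveI : Algebra.FinitePresentation R A := hA.2.1
  haveI : Algebra.FormallySmooth (R ⧸ I) (A ⧸ I.map (algebraMap R A)) :=
    Algebra.FormallySmooth.of_equiv e.symm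
  -- the smooth locus contains `V(I A)`
  have hV : PrimeSpectrum.zeroLocus (I.map (algebraMap R A) : Set A) ⊆
      Algebra.smoothLocus R A := by
    intro q hq
    have hq' : I.map (algebraMap R A) ≤ q.asIdeal := hq
    have hIp : I ≤ q.asIdeal.under R := by
      intro a ha
      exact hq' (Ideal.mem_map_of_mem _ ha)
    haveI := formallySmooth_fiber_of_quotient I (A := A) (q.asIdeal.under R) hIp
    exact Algebra.IsSmoothAt.of_formallySmooth_fiber (q.asIdeal.under R) q.asIdeal
  -- the complement of the smooth locus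
  have hopen : IsOpen (Algebra.smoothLocus R A) := Algebra.isOpen_smoothLocus
  obtain ⟨𝔠, h𝔠⟩ := (PrimeSpectrum.isClosed_iff_zeroLocus_ideal _).mp hopen.isClosed_compl
  have hdisj : PrimeSpectrum.zeroLocus ((𝔠 ⊔ I.map (algebraMap R A) : Ideal A) : Set A) = ∅ := by
    rw [PrimeSpectrum.zeroLocus_sup, ← h𝔠]
    ext q
    simp only [Set.mem_inter_iff, Set.mem_compl_iff, Set.mem_empty_iff_false, iff_false, not_and,
      not_not]
    intro h1 h2
    exact h1 (hV h2)
  rw [PrimeSpectrum.zeroLocus_empty_iff_eq_top] at hdisj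
  have h1 : (1 : A) ∈ 𝔠 ⊔ I.map (algebraMap R A) := by rw [hdisj]; trivial
  obtain ⟨c, hc, i, hi, hci⟩ := Submodule.mem_sup.mp h1
  have hc1 : c - 1 ∈ I.map (algebraMap R A) := by
    have : c - 1 = -i := by rw [← hci]; ring
    rw [this]
    exact neg_mem hi
  have hsub : (PrimeSpectrum.basicOpen c : Set (PrimeSpectrum A)) ⊆ Algebra.smoothLocus R A := by
    intro q hq
    by_contra hns
    have : q ∈ PrimeSpectrum.zeroLocus (𝔠 : Set A) := by rw [← h𝔠]; exact hns
    exact hq (this hc)
  have hsm : Algebra.Smooth R (Localization.Away c) :=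
    Algebra.basicOpen_subset_smoothLocus_iff_smooth.mp hsub
  obtain ⟨e'⟩ := nonempty_algEquiv_away_quotient I c hc1
  exact ⟨Localization.Away c, inferInstance, inferInstance, hsm, ⟨e'.trans e⟩⟩

end Groth.Agent.H8.SL
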